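import Groth.Agent.LD6.HZExt
import Groth.Agent.DQCoh.KoszulPunct17
import Groth.Agent.CAlgH3.RGam.Coreflect
import Groth.Agent.CAlgH3.RGam.BaseChange
import Groth.Agent.Dual22Lib.GammaApps
import Groth.Agent.DualLib.SerreTop
import Groth.Prelude.Def_DualLC

/-!
# Local cohomology of `Rf_* M` against cohomology with supports in the preimage
-/

set_option autoImplicit false
set_option backward.isDefEq.respectTransparency false
set_option linter.style.haveILetI false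
set_option linter.unusedSectionVars false
set_option synthInstance.maxHeartbeats 200000
set_option maxHeartbeats 1000000

universe u

open CategoryTheory CategoryTheory.Limits AlgebraicGeometry Opposite
open Groth.Agent.CAlgH3 Groth.Agent.Dual22Lib Groth.Agent.Dual22Lib.AdjGeom Groth.Agent.DualLib

attribute [local instance] HasDerivedCategory.standard

namespace Groth.Agent.LD6

variable {A : Type u} [CommRing A] [PreservesFiniteLimits (tilde.functor (CommRingCat.of A))]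

theorem killed_iff_Tors (s : List A) (L : Dual.D A) :
    killed (DQCoh.KosPunct.U A s).ι ((DCoh.tildeD (CommRingCat.of A)).obj L) ↔ RGam.Tors (_root_.Ideal.ofList s) L := by
  rw [DQCoh.KosPunct.killed_iff_tors]
  refine ⟨fun h i y => ?_, fun h f hf i y => ?_⟩
  · exact RGam.mem_tor_of_forall y s fun g hg => h g hg i y
  · obtain ⟨n, hn⟩ := h i y
    exact ⟨n, hn _ (_root_.Ideal.pow_mem_pow (show f ∈ _root_.Ideal.ofList s from _root_.Ideal.subset_span hf) n)⟩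

variable [IsNoetherianRing A] {X : Scheme.{u}} [X.Over (Spec (CommRingCat.of A))]
  [DCoh.HasRpush (X ↘ Spec (CommRingCat.of A))]

/-- Local cohomology of a complex representing `Rf_* M` is cohomology with supports in the preimage. -/
theorem nonempty_HDI_HZM (I : Ideal A) (M : X.Modules) (K : Dual.D A)
    (e : (DCoh.tildeD (CommRingCat.of A)).obj K ≅
      (DCoh.Rpush (X ↘ Spec (CommRingCat.of A))).obj (DCoh.inD X M)) (n : ℕ) :
    Nonempty (Dual2.HDI A I K (n : ℤ) ≃+ LocCohZ.HZM X M n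
      ((X ↘ Spec (CommRingCat.of A)) ⁻¹ᵁ LocCoh.puncturedOpen A I)) := by
  obtain ⟨s, rfl⟩ := RGam.exists_list I
  let f := X ↘ Spec (CommRingCat.of A)
  let T := DCoh.tildeD (CommRingCat.of A)
  let P := DQCoh.KosPunct.U A s
  haveI := RGam.hasRgammaI (_root_.Ideal.ofList s)
  haveI : CxOX.HasRgammaZ P.ι :=
    DCat.hasRightDerivedFunctor_of_enoughKInj (DCat.modules_enoughKInj _) _
  haveI : CxOX.HasRgammaZ (f ⁻¹ᵁ P).ι :=
    DCat.hasRightDerivedFunctor_of_enoughKInj (DCat.modules_enoughKInj _) _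
  haveI := DCat.hasRpush P.ι
  haveI := DCat.hasRpush (f ⁻¹ᵁ P).ι
  obtain ⟨_, _⟩ := DCat.exists_commShift_Rpush f
  obtain ⟨hfull, hfaith, hess⟩ := DQCoh.tildeD_main (CommRingCat.of A)
  haveI := hfull
  haveI := hfaith
  let G := (CxOX.RgammaZ P.ι).obj (T.obj K)
  obtain ⟨G₀, ⟨c⟩⟩ := (hess G).1 (GammaZ.isQCohD_RgammaZ P.ι ((hess (T.obj K)).2 ⟨K, ⟨Iso.refl _⟩⟩))
  obtain ⟨a, ha⟩ := T.map_surjective (c.hom ≫ (CxOX.RgammaZToId P.ι).app (T.obj K))
  have hG₀ : RGam.Tors (_root_.Ideal.ofList s) G₀ :=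
    (killed_iff_Tors s G₀).1 (IsZero.of_iso (GammaZ.killed_RgammaZ P.ι _) ((DCoh.restrictD P.ι).mapIso c))
  have hb : ∀ L : Dual.D A, RGam.Tors (_root_.Ideal.ofList s) L → Function.Bijective fun g : L ⟶ G₀ => g ≫ a := by
    intro L hL
    have hk : killed P.ι (T.obj L) := (killed_iff_Tors s L).2 hL
    let E₁ := (Functor.FullyFaithful.ofFullyFaithful T).homEquiv (X := L) (Y := G₀)
    let E₂ := (Functor.FullyFaithful.ofFullyFaithful T).homEquiv (X := L) (Y := K)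
    have key : E₂ ∘ (fun g : L ⟶ G₀ => g ≫ a) =
        (fun g : T.obj L ⟶ G => g ≫ (CxOX.RgammaZToId P.ι).app (T.obj K)) ∘
          (fun g : T.obj L ⟶ T.obj G₀ => g ≫ c.hom) ∘ E₁ := funext fun g => by
      show T.map (g ≫ a) = (T.map g ≫ c.hom) ≫ _
      rw [Functor.map_comp, ha, Category.assoc]
    refine (Function.Bijective.of_comp_iff' E₂.bijective _).1 (key ▸ ?_)
    exact (GammaZ.bijective_comp P.ι hk _).comp (c.homToEquiv.bijective.comp E₁.bijective)
  -- `G₀` is `RΓ_I K`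
  let η := (DRing.RgammaIε (_root_.Ideal.ofList s)).app K
  obtain ⟨p, hp⟩ := (RGam.bijective_comp_ε (_root_.Ideal.ofList s) hG₀ K).2 a
  obtain ⟨q, hq⟩ := (hb _ (RGam.tors_RgammaI (_root_.Ideal.ofList s) K)).2 η
  dsimp only at hp hq
  let i₀ : G₀ ≅ (DRing.RgammaI (_root_.Ideal.ofList s)).obj K :=
    ⟨p, q, (hb G₀ hG₀).1 (by dsimp only; rw [Category.assoc, hq, hp, Category.id_comp]),
      (RGam.bijective_comp_ε (_root_.Ideal.ofList s) (RGam.tors_RgammaI _ K) K).1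
        (by dsimp only; rw [Category.assoc, hp, hq, Category.id_comp])⟩
  obtain ⟨Φ⟩ := GammaHDI.nonempty_HDI_RgammaI (_root_.Ideal.ofList s) K (n : ℤ)
  obtain ⟨Ψ⟩ := SerreTop.nonempty_HD_equiv A G₀ (n : ℤ)
  -- the sheaf side
  obtain ⟨⟨α, hα⟩, hiso⟩ := GammaZ.Rpush_RgammaZ f P (DCoh.inD X M)
  haveI := hiso α hα
  let G' := (CxOX.RgammaZ (f ⁻¹ᵁ P).ι).obj (DCoh.inD X M)
  let d : (DCoh.Rpush f).obj G' ≅ T.obj G₀ :=
    asIso α ≪≫ (CxOX.RgammaZ P.ι).mapIso e.symm ≪≫ c.symm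
  let d' : T.obj (G₀⟦(n : ℤ)⟧) ≅ (DCoh.Rpush f).obj (G'⟦(n : ℤ)⟧) :=
    (T.commShiftIso (n : ℤ)).app G₀ ≪≫ (shiftFunctor _ (n : ℤ)).mapIso d.symm ≪≫
      (((DCoh.Rpush f).commShiftIso (n : ℤ)).app G').symm
  obtain ⟨v, hv⟩ := RingBase.exists_transpose (R := A) (X := X)
  haveI := RingBase.additive_Rpush (R := A) (X := X)
  let τ : ((DerivedCategory.singleFunctor X.Modules 0).obj ((Coherent.freeModOn X).obj ⊤) ⟶ G'⟦(n : ℤ)⟧) ≃+
      (RingBase.PS A ⟶ (DCoh.Rpush f).obj (G'⟦(n : ℤ)⟧)) :=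
    AddEquiv.ofBijective
      (AddMonoidHom.mk' (fun y => v ≫ (DCoh.Rpush f).map y) fun y z => by rw [Functor.map_add, Preadditive.comp_add])
      (hv _)
  obtain ⟨Z⟩ := nonempty_sections_equiv (f ⁻¹ᵁ P) M n
  let h₁ := ((DerivedCategory.homologyFunctor (ModuleCat.{u} A) (n : ℤ)).mapIso i₀).toLinearEquiv
  exact ⟨(((Φ.toAddEquiv.trans h₁.symm.toAddEquiv).trans Ψ.toAddEquiv).trans
    (SerreTop.theta A d').toAddEquiv).trans (τ.symm.trans Z)⟩

end Groth.Agent.LD6
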