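import Groth.Agent.DualLib.CxDualityHDI
import Groth.Agent.CAlgH3.RGam.Coreflect
import Groth.Agent.DualLib.GammaHDI

/-!
# Local duality, naturally
-/

set_option autoImplicit false
set_option backward.isDefEq.respectTransparency false
set_option backward.defeqAttrib.useBackward true
set_option linter.style.haveILetI false
set_option linter.unusedSectionVars false

universe u

open CategoryTheory CategoryTheory.Limits Opposite
open Groth.Agent.DualLib Groth.Agent.CAlgH3 Groth.Agent.DCat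

attribute [local instance] HasDerivedCategory.standard

namespace Groth.Agent.LD6.DN

open GammaHDI CxDuality

variable {A : Type u} [CommRing A]

/-- The system whose colimit is `HDI`. -/
noncomputable abbrev sysG (I : Ideal A) (K : Dual.D A) (i : ℤ) :=
  (localCohomology.ringModIdeals (localCohomology.idealPowersDiagram I) ⋙
    DerivedCategory.singleFunctor (ModuleCat.{u} A) 0).op ⋙ (linearYoneda A (Dual.D A)).obj (K⟦i⟧)

/-- Functoriality of `HDI`. -/
noncomputable def hdiMap (I : Ideal A) {K K' : Dual.D A} (φ : K ⟶ K') (i : ℤ) :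
    Dual2.HDI A I K i ⟶ Dual2.HDI A I K' i :=
  colimMap (Functor.whiskerLeft _ ((linearYoneda A (Dual.D A)).map (φ⟦i⟧')))

theorem hdiMap_ι (I : Ideal A) {K K' : Dual.D A} (φ : K ⟶ K') (i : ℤ) (n) (x : (sysG I K i).obj n) :
    (hdiMap I φ i).hom ((colimit.ι (sysG I K i) n).hom x) =
      (colimit.ι (sysG I K' i) n).hom (x ≫ φ⟦i⟧') :=
  LinearMap.congr_fun (congrArg ModuleCat.Hom.hom
    (ι_colimMap
      (Functor.whiskerLeft _ ((linearYoneda A (Dual.D A)).map (φ⟦i⟧'))) n)) x

theorem exists_equiv_homology {J : DRing.Cx A} [J.IsKInjective] {K : Dual.D A} {I : Ideal A} {i : ℤ}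
    (e : DerivedCategory.Q.obj J ≅ K) :
    ∃ Φ : Dual2.HDI A I K i ≃ₗ[A] (GC I J).homology i, ∀ (n : ℕᵒᵖᵒᵖ) (x : (sysG I K i).obj n) (f : cyc J i (Qn I n.unop.unop)),
      lam e (Qn I n.unop.unop) f = x →
      Φ ((colimit.ι (sysG I K i) n).hom x) = ((GC I J).homologyπ i).hom (ev n.unop.unop f) := by
  choose L hL using exists_stage (I := I) (i := i) e
  let G := (localCohomology.ringModIdeals (localCohomology.idealPowersDiagram I) ⋙
      DerivedCategory.singleFunctor (ModuleCat.{u} A) 0).op ⋙ (linearYoneda A (Dual.D A)).obj (K⟦i⟧)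
  have hnat : ∀ (n k : ℕ) (h : n ≤ k) (x : (S0 A).obj (Qn I n) ⟶ K⟦i⟧),
      L k ((S0 A).map (LocCoh.qmap I h) ≫ x) = L n x := by
    intro n k h x
    obtain ⟨f, rfl⟩ := lam_surjective e _ x
    have hf : f.1 ∘ₗ (LocCoh.qmap I h).hom ∈ cyc J i (Qn I k) := by
      show (J.d i (i + 1)).hom ∘ₗ _ = 0
      rw [← LinearMap.comp_assoc, f.2, LinearMap.zero_comp]
    rw [← lam_natural e (LocCoh.qmap I h) f hf, hL, hL]
    congr 1
  let c : Cocone G :=
    { pt := ModuleCat.of A (ULift.{u + 1} ((GC I J).homology i))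
      ι :=
        { app := fun n => ModuleCat.ofHom (ULift.moduleEquiv.symm.toLinearMap ∘ₗ L n.unop.unop)
          naturality := fun n k φ => by
            apply ModuleCat.hom_ext
            exact LinearMap.ext fun x => congrArg ULift.up (hnat n.unop.unop k.unop.unop φ.unop.unop.le x) } }
  let Φ : Dual2.HDI A I K i →ₗ[A] (GC I J).homology i := ULift.moduleEquiv.toLinearMap ∘ₗ (colimit.desc G c).hom
  have hΦ : ∀ (n) (x : G.obj n), Φ ((colimit.ι G n).hom x) = L n.unop.unop x := fun n x => by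
    show ULift.down ((colimit.ι G n ≫ colimit.desc G c).hom x) = _
    rw [colimit.ι_desc]
    rfl
  refine ⟨LinearEquiv.ofBijective Φ ⟨(injective_iff_map_eq_zero _).2 fun z hz => ?_, fun y => ?_⟩, fun n x f hf => (hΦ n x).trans ((congrArg (L n.unop.unop) hf.symm).trans (hL n.unop.unop f))⟩
  · obtain ⟨n, x, rfl⟩ := exists_rep_HDI _ _ _ z
    obtain ⟨f, rfl⟩ : ∃ f, lam e (Qn I n.unop.unop) f = x := lam_surjective e _ x
    rw [hΦ, hL] at hz
    obtain ⟨w, hw⟩ := (homologyπ_eq_zero_iff _ _ _).1 hz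
    obtain ⟨k, hk⟩ := w.2
    let m := max n.unop.unop k
    let h : Qn I m →ₗ[A] J.X (i - 1) := Submodule.liftQ _ (LinearMap.toSpanSingleton A _ w.1) fun a ha =>
      hk a (Ideal.pow_le_pow_right (le_max_right _ _) ha)
    let g : n ⟶ op (op m) := (homOfLE (le_max_left n.unop.unop k : n.unop.unop ≤ m)).op.op
    have hw' : (G.map g).hom (lam e _ f) = 0 := by
      show (S0 A).map (LocCoh.qmap I (le_max_left n.unop.unop k)) ≫ lam e _ f = 0
      have hf' : f.1 ∘ₗ (LocCoh.qmap I (le_max_left n.unop.unop k)).hom ∈ cyc J i (Qn I m) := by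
        show (J.d i (i + 1)).hom ∘ₗ _ = 0
        rw [← LinearMap.comp_assoc, f.2, LinearMap.zero_comp]
      rw [← lam_natural e _ f hf']
      let hc : (CochainComplex.singleFunctor (ModuleCat.{u} A) i).obj (Qn I m) ⟶ J := toCx ⟨_, hf'⟩
      have hnull : DerivedCategory.Q.map hc = 0 := by
        rw [← DerivedCategory.Q.map_zero]
        refine DerivedCategory.Q_map_eq_of_homotopy _ ?_
        refine Homotopy.ofEq ?_ |>.trans (Homotopy.nullHomotopy' fun p q _ =>
          if hp : p = i then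
            if hq : q = i - 1 then
              (HomologicalComplex.singleObjXIsoOfEq (ComplexShape.up ℤ) i (Qn I m) p hp).hom ≫ ModuleCat.ofHom h ≫
                (J.XIsoOfEq hq).inv
            else 0
          else 0)
        refine HomologicalComplex.from_single_hom_ext ?_
        rw [Homotopy.nullHomotopicMap'_f (show (ComplexShape.up ℤ).Rel (i - 1) i by simp)
          (show (ComplexShape.up ℤ).Rel i (i + 1) by simp)]
        have hd : ((HomologicalComplex.single (ModuleCat.{u} A) (ComplexShape.up ℤ) i).obj (Qn I m)).d i (i + 1) = 0 :=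
          HomologicalComplex.single_obj_d _ _ _ _ _
        rw [hd, zero_comp, zero_add, dif_pos rfl, dif_pos rfl, toCx_f]
        show (HomologicalComplex.singleObjXSelf (ComplexShape.up ℤ) i (Qn I m)).hom ≫ _ = _
        rw [HomologicalComplex.XIsoOfEq_rfl, Iso.refl_inv, Category.comp_id, Category.assoc]
        congr 1
        apply ModuleCat.hom_ext
        refine Submodule.linearMap_qext _ (LinearMap.ext_ring ?_)
        have h2 : (J.d (i - 1) i).hom w.1 = f.1 (Submodule.Quotient.mk 1) :=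
          (congrArg Subtype.val hw).trans (iCycles_ev _ f)
        show f.1 ((LocCoh.qmap I _).hom (Submodule.Quotient.mk 1)) = (J.d (i - 1) i).hom (h (Submodule.Quotient.mk 1))
        rw [show h (Submodule.Quotient.mk 1) = w.1 from one_smul A w.1, h2]
        rfl
      show (shIso i (Qn I m)).inv ≫ (DerivedCategory.Q.map hc ≫ e.hom)⟦i⟧' = 0
      rw [hnull, Limits.zero_comp, Functor.map_zero, Limits.comp_zero]
    exact (show (colimit.ι G n).hom (lam e _ f) = (colimit.ι G (op (op m))).hom ((G.map g).hom (lam e _ f)) by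
      rw [← colimit.w G g]; rfl).trans (by rw [hw', map_zero])
  · obtain ⟨z, rfl⟩ := (ModuleCat.epi_iff_surjective ((GC I J).homologyπ i)).1 inferInstance y
    obtain ⟨n, hn⟩ := (((GC I J).iCycles i).hom z).2
    let f : cyc J i (Qn I n) := ⟨Submodule.liftQ _ (LinearMap.toSpanSingleton A _ (((GC I J).iCycles i).hom z).1)
        fun a ha => hn a ha, Submodule.linearMap_qext _ (LinearMap.ext_ring (by
          have h1 := congrArg Subtype.val (congrArg (fun f => f.hom z) ((GC I J).iCycles_d i (i + 1)))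
          show (J.d i (i + 1)).hom ((1 : A) • (((GC I J).iCycles i).hom z).1) = 0
          rw [one_smul]
          exact h1))⟩
    refine ⟨(colimit.ι G (op (op n))).hom (lam e _ f), (hΦ _ _).trans ((hL n f).trans ?_)⟩
    congr 1
    exact (ModuleCat.mono_iff_injective ((GC I J).iCycles i)).1 inferInstance
      (Subtype.ext (by rw [iCycles_ev]; exact one_smul A _))


variable [IsLocalRing A] [IsNoetherianRing A] {ω : Dual.D A} {E₀ : Type u} [AddCommGroup E₀] [Module A E₀]

theorem exists_HDI_equiv (ρ : DualSystem ω E₀) (hω : Dual.IsDualizing A ω) (hn : Dual.IsNormalized A ω)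
    {f₀ : IsLocalRing.ResidueField A →ₗ[A] E₀} (hf₀ : InjHull.IsInjectiveHull f₀)
    (K : Dual.D A) (hK : ∀ q, Module.Finite A (Dual.HD A K q)) (i : ℤ) :
    ∃ Φ : Dual2.HDI A (IsLocalRing.maximalIdeal A) K i ≃ₗ[A] ((K ⟶ ω⟦(-i)⟧) →ₗ[A] E₀),
      ∀ (n) (x : (sysG (IsLocalRing.maximalIdeal A) K i).obj n) (φ : K ⟶ ω⟦(-i)⟧),
        Φ ((colimit.ι (sysG (IsLocalRing.maximalIdeal A) K i) n).hom x) φ =
          pr ρ (show -i + i = 0 by omega) (n := n.unop.unop) x φ := by
  obtain ⟨hI, hS⟩ := stat ρ hω hn hf₀ K hK i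
  have h : -i + i = 0 := by omega
  let G := (localCohomology.ringModIdeals (localCohomology.idealPowersDiagram (IsLocalRing.maximalIdeal A)) ⋙
      DerivedCategory.singleFunctor (ModuleCat.{u} A) 0).op ⋙ (linearYoneda A (Dual.D A)).obj (K⟦i⟧)
  let c : Cocone G :=
    { pt := ModuleCat.of A ((K ⟶ ω⟦(-i)⟧) →ₗ[A] E₀)
      ι :=
        { app := fun n => ModuleCat.ofHom
            { toFun := fun x => prL ρ h (n := n.unop.unop) x
              map_add' := fun x y => LinearMap.ext fun φ => pr_add_left ρ h x y φ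
              map_smul' := fun a x => LinearMap.ext fun φ =>
                (congrArg (ρ.toFun n.unop.unop) (ShiftedHom.smul_comp a x φ h)).trans (map_smul _ _ _) }
          naturality := fun n k φ => by
            apply ModuleCat.hom_ext
            refine LinearMap.ext fun x => LinearMap.ext fun ψ => ?_
            exact pr_qm ρ h (show n.unop.unop ≤ k.unop.unop from φ.unop.unop.le) x ψ } }
  let Φ : Dual2.HDI A (IsLocalRing.maximalIdeal A) K i →ₗ[A] ((K ⟶ ω⟦(-i)⟧) →ₗ[A] E₀) := (colimit.desc G c).hom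
  have hΦ : ∀ (n) (x : G.obj n) (φ : K ⟶ ω⟦(-i)⟧), Φ ((colimit.ι G n).hom x) φ = pr ρ h (n := n.unop.unop) x φ := by
    intro n x φ
    show ((colimit.ι G n ≫ colimit.desc G c).hom x) φ = _
    rw [colimit.ι_desc]
    rfl
  refine ⟨LinearEquiv.ofBijective Φ ⟨(injective_iff_map_eq_zero _).2 fun z hz => ?_, fun t => ?_⟩, hΦ⟩
  · obtain ⟨n, x, rfl⟩ := exists_rep_HDI _ _ _ z
    obtain ⟨k, hk, hk0⟩ := hI n.unop.unop x fun j h' φ => by
      obtain rfl : j = -i := by omega
      rw [← hΦ, hz]; rfl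
    let g : n ⟶ op (op k) := (homOfLE hk).op.op
    have hw : (G.map g).hom x = 0 := hk0
    have e : (colimit.ι G n).hom x = (colimit.ι G (op (op k))).hom ((G.map g).hom x) := by
      rw [← colimit.w G g]; rfl
    exact e.trans (by rw [hw, map_zero])
  · obtain ⟨n, x, hx⟩ := hS (-i) h t
    exact ⟨(colimit.ι G (op (op n))).hom x, LinearMap.ext fun φ => (hΦ (op (op n)) x φ).trans (hx φ)⟩


/-- Local duality turns surjective maps into injective ones. -/
theorem surjective_hdiMap_iff (hω : Dual.IsDualizing A ω) (hn : Dual.IsNormalized A ω)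
    {f₀ : IsLocalRing.ResidueField A →ₗ[A] E₀} (hf₀ : InjHull.IsInjectiveHull f₀)
    {K K' : Dual.D A} (hK : ∀ q, Module.Finite A (Dual.HD A K q)) (hK' : ∀ q, Module.Finite A (Dual.HD A K' q))
    (φ : K ⟶ K') (i : ℤ) :
    Function.Surjective (hdiMap (IsLocalRing.maximalIdeal A) φ i).hom ↔
      Function.Injective fun g : K' ⟶ ω⟦(-i)⟧ => φ ≫ g := by
  obtain ⟨ρ₀, h1, h2, h3⟩ := exists_dualSystem hω hn hf₀
  let ρ : DualSystem ω E₀ := ⟨ρ₀, h1, h2, h3⟩
  obtain ⟨Φ, hΦ⟩ := exists_HDI_equiv ρ hω hn hf₀ K hK i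
  obtain ⟨Φ', hΦ'⟩ := exists_HDI_equiv ρ hω hn hf₀ K' hK' i
  let P : (K' ⟶ ω⟦(-i)⟧) →ₗ[A] (K ⟶ ω⟦(-i)⟧) := Linear.leftComp A _ φ
  have comm : ∀ z, Φ' ((hdiMap (IsLocalRing.maximalIdeal A) φ i).hom z) = (Φ z).comp P := fun z => by
    obtain ⟨n, x, rfl⟩ := exists_rep_HDI _ _ _ z
    refine LinearMap.ext fun ψ => ?_
    rw [LinearMap.comp_apply]
    refine Eq.trans ?_ (hΦ n x (P ψ)).symm
    refine (congrArg (fun z => Φ' z ψ) (hdiMap_ι _ φ i n x)).trans ?_
    refine (hΦ' n _ ψ).trans (congrArg (ρ.toFun n.unop.unop) ?_)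
    show (x ≫ φ⟦i⟧') ≫ ψ⟦i⟧' ≫ _ = x ≫ (φ ≫ ψ)⟦i⟧' ≫ _
    rw [Functor.map_comp, Category.assoc, Category.assoc]
  haveI : Module.Injective A E₀ := hf₀.isInjective
  have hE := Matlis6.of_isInjectiveHull_residueField hf₀
  show _ ↔ Function.Injective P
  constructor
  · intro hs
    refine (injective_iff_map_eq_zero P).2 fun g hg => by_contra fun hne => ?_
    haveI := CxDuality.finite_hom hω K' hK' (-i)
    obtain ⟨m, π, hπ⟩ := Module.Finite.exists_fin' A (K' ⟶ ω⟦(-i)⟧)
    let e := π.quotKerEquivOfSurjective hπ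
    obtain ⟨χ, hχ⟩ := hE.exists_apply_ne_zero_local (x := e.symm g) (by
      rw [Ne, LinearEquiv.map_eq_zero_iff]; exact hne)
    obtain ⟨z, hz⟩ := hs (Φ'.symm (χ.comp e.symm.toLinearMap))
    have h := comm z
    rw [hz, LinearEquiv.apply_symm_apply] at h
    refine hχ ((LinearMap.congr_fun h g).trans ?_)
    rw [LinearMap.comp_apply, hg, map_zero]
  · intro hP z
    obtain ⟨g, hg⟩ := (Module.Baer.of_injective ‹Module.Injective A E₀›).extension_property P hP (Φ' z)
    exact ⟨Φ.symm g, Φ'.injective (by rw [comm, LinearEquiv.apply_symm_apply, hg])⟩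

omit [IsLocalRing A] in
/-- `HDI` is the cohomology of `RΓ_I`, naturally. -/
theorem surjective_hdiMap_iff_RgammaI (I : Ideal A) [DRing.HasRgammaI I] {K K' : Dual.D A} (φ : K ⟶ K') (i : ℤ) :
    Function.Surjective (hdiMap I φ i).hom ↔
      Function.Surjective ((DerivedCategory.homologyFunctor (ModuleCat.{u} A) i).map ((DRing.RgammaI I).map φ)).hom := by
  obtain ⟨J, e, hJ, -, -⟩ := RGam.exists_model K
  obtain ⟨J', e', hJ', -, -⟩ := RGam.exists_model K'
  haveI := hJ
  haveI := hJ'
  obtain ⟨σ, hσ⟩ := Q_map_surjective (X := J) (I := J') (e.hom ≫ φ ≫ e'.inv)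
  obtain ⟨Φ, hΦ⟩ := exists_equiv_homology (I := I) (i := i) e
  obtain ⟨Φ', hΦ'⟩ := exists_equiv_homology (I := I) (i := i) e'
  let gσ := RGam.gcMap I σ
  have comm : ∀ z, Φ' ((hdiMap I φ i).hom z) = (HomologicalComplex.homologyMap gσ i).hom (Φ z) := fun z => by
    obtain ⟨n, x, rfl⟩ := exists_rep_HDI _ _ _ z
    obtain ⟨f, rfl⟩ : ∃ f, lam e (Qn I n.unop.unop) f = x := lam_surjective e _ x
    refine (congrArg Φ' (hdiMap_ι I φ i n _)).trans ?_
    rw [hΦ n _ f rfl]
    have hf : (σ.f i).hom ∘ₗ f.1 ∈ cyc J' i (Qn I n.unop.unop) := by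
      show (J'.d i (i + 1)).hom ∘ₗ _ = 0
      refine LinearMap.ext fun y => ?_
      show (J'.d i (i + 1)).hom ((σ.f i).hom (f.1 y)) = 0
      rw [RGam.comm σ i (i + 1) (f.1 y), show (J.d i (i + 1)).hom (f.1 y) = 0 from LinearMap.congr_fun f.2 y, map_zero]
    have h1 : lam e _ f ≫ φ⟦i⟧' = lam e' _ ⟨_, hf⟩ := by
      have h2 : toCx (⟨_, hf⟩ : cyc J' i (Qn I n.unop.unop)) = toCx f ≫ σ :=
        HomologicalComplex.from_single_hom_ext (by
          rw [HomologicalComplex.comp_f, toCx_f, toCx_f, Category.assoc]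
          rfl)
      show ((shIso i _).inv ≫ _) ≫ φ⟦i⟧' = (shIso i _).inv ≫ _
      rw [h2, Category.assoc, ← Functor.map_comp, Functor.map_comp DerivedCategory.Q, hσ]
      simp only [Category.assoc, Iso.inv_hom_id, Category.comp_id]
    refine (hΦ' n _ ⟨_, hf⟩ h1.symm).trans ?_
    refine Eq.trans ?_ (congrArg (fun q => q.hom (ev n.unop.unop f)) (HomologicalComplex.homologyπ_naturality gσ i)).symm
    refine congrArg ((GC I J').homologyπ i).hom ?_
    refine (ModuleCat.mono_iff_injective ((GC I J').iCycles i)).1 inferInstance (Subtype.ext ?_)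
    rw [iCycles_ev]
    refine Eq.trans ?_ (congrArg Subtype.val (congrArg (fun q => q.hom (ev n.unop.unop f))
      (HomologicalComplex.cyclesMap_i gσ i))).symm
    show (σ.f i).hom (f.1 (Submodule.Quotient.mk 1)) = (σ.f i).hom (((GC I J).iCycles i).hom (ev n.unop.unop f)).1
    rw [iCycles_ev]
  have h1 : Function.Surjective (hdiMap I φ i).hom ↔ Function.Surjective (HomologicalComplex.homologyMap gσ i).hom := by
    have heq : (HomologicalComplex.homologyMap gσ i).hom ∘ Φ = Φ' ∘ (hdiMap I φ i).hom := funext fun z => (comm z).symm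
    exact ⟨fun h => Function.Surjective.of_comp (g := Φ) (heq ▸ Φ'.surjective.comp h),
      fun h => Function.Surjective.of_comp_left (heq ▸ h.comp Φ.surjective) Φ'.injective⟩
  haveI := RGam.isIso_theta_kInj I J hJ
  haveI := RGam.isIso_theta_kInj I J' hJ'
  let E : DerivedCategory.Q.obj (GC I J) ≅ (DRing.RgammaI I).obj K := asIso (RGam.theta I J) ≪≫ (DRing.RgammaI I).mapIso e
  let E' : DerivedCategory.Q.obj (GC I J') ≅ (DRing.RgammaI I).obj K' := asIso (RGam.theta I J') ≪≫ (DRing.RgammaI I).mapIso e'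
  have hE : DerivedCategory.Q.map gσ ≫ E'.hom = E.hom ≫ (DRing.RgammaI I).map φ := by
    simp only [E, E', Iso.trans_hom, asIso_hom, Functor.mapIso_hom, Category.assoc]
    rw [← Category.assoc, RGam.theta_naturality, Category.assoc, ← Functor.map_comp, hσ]
    simp only [Category.assoc, Iso.inv_hom_id, Category.comp_id, Functor.map_comp]
  let H := DerivedCategory.homologyFunctor (ModuleCat.{u} A) i
  let η := DerivedCategory.homologyFunctorFactors (ModuleCat.{u} A) i
  let Ψ := ((η.app (GC I J)).symm ≪≫ H.mapIso E).toLinearEquiv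
  let Ψ' := ((η.app (GC I J')).symm ≪≫ H.mapIso E').toLinearEquiv
  have hn : HomologicalComplex.homologyMap gσ i ≫ ((η.app (GC I J')).symm ≪≫ H.mapIso E').hom =
      ((η.app (GC I J)).symm ≪≫ H.mapIso E).hom ≫ H.map ((DRing.RgammaI I).map φ) := by
    simp only [Iso.trans_hom, Iso.symm_hom, Functor.mapIso_hom, Category.assoc]
    rw [← Functor.map_comp, ← hE, Functor.map_comp, ← Category.assoc, ← Category.assoc]
    exact congrArg (· ≫ H.map E'.hom) (η.inv.naturality gσ)
  rw [h1]
  have heq : (H.map ((DRing.RgammaI I).map φ)).hom ∘ Ψ = Ψ' ∘ (HomologicalComplex.homologyMap gσ i).hom :=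
    funext fun z => (congrArg (fun q => q.hom z) hn).symm
  exact ⟨fun h => Function.Surjective.of_comp (g := Ψ) (heq ▸ Ψ'.surjective.comp h),
    fun h => Function.Surjective.of_comp_left (heq ▸ h.comp Ψ.surjective) Ψ'.injective⟩

end Groth.Agent.LD6.DN
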