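import Groth.Agent.LD6.Bridge
import Groth.Agent.LD6.DualityNat

/-!
# Local cohomology against cohomology with supports, naturally
-/

set_option autoImplicit false
set_option backward.isDefEq.respectTransparency false
set_option linter.style.haveILetI false
set_option linter.unusedSectionVars false
set_option synthInstance.maxHeartbeats 200000
set_option maxHeartbeats 1000000

universe u v w

open CategoryTheory CategoryTheory.Limits AlgebraicGeometry Opposite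
open Groth.Agent.CAlgH3 Groth.Agent.Dual22Lib Groth.Agent.Dual22Lib.AdjGeom Groth.Agent.DualLib Groth.Agent.Coherent

attribute [local instance] HasDerivedCategory.standard

namespace Groth.Agent.LD6

theorem surjective_congr {A B A' B' : Sort*} {f : A → B} {g : A' → B'} (a : A → A') (b : B → B')
    (ha : Function.Bijective a) (hb : Function.Bijective b) (h : ∀ x, g (a x) = b (f x)) :
    Function.Surjective f ↔ Function.Surjective g :=
  ⟨fun hf => Function.Surjective.of_comp (g := a) ((funext h : g ∘ a = b ∘ f) ▸ hb.2.comp hf),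
    fun hg => Function.Surjective.of_comp_left ((funext h : g ∘ a = b ∘ f) ▸ hg.comp ha.2) hb.1⟩

variable {X : Scheme.{u}} (U : X.Opens) [CxOX.HasRgammaZ U.ι] [DCoh.HasRpush U.ι]

open CategoryTheory.Pretriangulated in
/-- Cohomology with supports as derived sections of `RΓ_Z`, naturally. -/
theorem surjective_map_iff_sections {M' M : X.Modules} (ψ : M' ⟶ M) (n : ℕ) :
    Function.Surjective (LocCohZ.map (X := X.carrier) ((toAbFunctor X).map ψ) n (le_top : U ≤ ⊤)) ↔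
      Function.Surjective fun g : (DerivedCategory.singleFunctor X.Modules 0).obj ((freeModOn X).obj ⊤) ⟶
          ((CxOX.RgammaZ U.ι).obj (DCoh.inD X M'))⟦(n : ℤ)⟧ =>
        g ≫ ((CxOX.RgammaZ U.ι).map ((DerivedCategory.singleFunctor X.Modules 0).map ψ))⟦(n : ℤ)⟧' := by
  let S := DerivedCategory.singleFunctor X.Modules 0
  let C := S.obj (quotMod U)
  let G : X.Modules → DCoh.D X := fun M => ((CxOX.RgammaZ U.ι).obj (DCoh.inD X M))⟦(n : ℤ)⟧
  let T := (quotSeq_shortExact U).singleTriangle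
  have hT : T ∈ distTriang (DCoh.D X) := (quotSeq_shortExact U).singleTriangle_distinguished
  have ha : ∀ M : X.Modules, Function.Bijective fun g : T.obj₃ ⟶ G M => T.mor₂ ≫ g := by
    intro M
    have hN : killed U.ι (G M) := (killed U.ι).le_shift (n : ℤ) _ (GammaZ.killed_RgammaZ U.ι _)
    have hN1 : ∀ g : T.obj₁⟦(1 : ℤ)⟧ ⟶ G M, g = 0 := fun g => by
      obtain ⟨g', rfl⟩ := (shiftFunctor (DCoh.D X) (1 : ℤ)).map_surjective
        (g ≫ (shiftFunctorCompIsoId (DCoh.D X) (-1) (1 : ℤ) (by omega)).inv.app (G M)) |>.imp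
          fun g' h => (show g = (shiftFunctor (DCoh.D X) (1 : ℤ)).map g' ≫
            (shiftFunctorCompIsoId (DCoh.D X) (-1) (1 : ℤ) (by omega)).hom.app (G M) by rw [h]; simp)
      rw [eq_zero_free ((killed U.ι).le_shift (-1 : ℤ) (G M) hN) g', Functor.map_zero, zero_comp]
    refine ⟨(injective_iff_map_eq_zero (Preadditive.leftComp (G M) T.mor₂)).2 fun g hg => ?_, fun g => ?_⟩
    · obtain ⟨g', rfl⟩ := Triangle.yoneda_exact₃ _ hT g hg
      rw [hN1 g', comp_zero]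
    · obtain ⟨g', hg'⟩ := Triangle.yoneda_exact₂ _ hT g (eq_zero_free hN _)
      exact ⟨g', hg'.symm⟩
  let ε : ∀ M : X.Modules, G M ⟶ (DCoh.inD X M)⟦(n : ℤ)⟧ := fun M =>
    ((CxOX.RgammaZToId U.ι).app (DCoh.inD X M))⟦(n : ℤ)⟧'
  have hb : ∀ M : X.Modules, Function.Bijective fun g : C ⟶ G M => g ≫ ε M := by
    intro M
    have hC : ∀ k : ℤ, killed U.ι (C⟦k⟧) := fun k => (killed U.ι).le_shift k _ (killed_quot U)
    let c := (shiftEquiv (DCoh.D X) (n : ℤ)).symm.toAdjunction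
    have key : (fun g : C⟦(-(n : ℤ))⟧ ⟶ (CxOX.RgammaZ U.ι).obj (DCoh.inD X M) =>
        c.homEquiv _ _ (g ≫ (CxOX.RgammaZToId U.ι).app (DCoh.inD X M))) =
          (fun g : C ⟶ G M => g ≫ ε M) ∘ (c.homEquiv _ _) :=
      funext fun g => c.homEquiv_naturality_right g _
    refine (Function.Bijective.of_comp_iff _ (c.homEquiv _ _).bijective).1 (key ▸ ?_)
    exact (c.homEquiv _ _).bijective.comp (GammaZ.bijective_comp U.ι (hC _) _)
  let Gψ := ((CxOX.RgammaZ U.ι).map (S.map ψ))⟦(n : ℤ)⟧'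
  have hnat : Gψ ≫ ε M = ε M' ≫ (S.map ψ)⟦(n : ℤ)⟧' := by
    simp only [Gψ, ε]
    rw [← Functor.map_comp, ← Functor.map_comp, (CxOX.RgammaZToId U.ι).naturality]
    rfl
  rw [← surjective_congr (f := fun g : C ⟶ G M' => g ≫ Gψ) _ _ (ha M') (ha M) fun g => Category.assoc _ _ _,
    surjective_congr (f := fun g : C ⟶ G M' => g ≫ Gψ) (g := fun g : C ⟶ (DCoh.inD X M')⟦(n : ℤ)⟧ => g ≫ (S.map ψ)⟦(n : ℤ)⟧')
      _ _ (hb M') (hb M) fun g => by simp only [Category.assoc, hnat],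
    ← surjective_congr (f := fun x : Abelian.Ext (quotMod U) M' n => x.comp (Abelian.Ext.mk₀ ψ) (add_zero n))
      (g := fun g : C ⟶ (DCoh.inD X M')⟦(n : ℤ)⟧ => g ≫ (S.map ψ)⟦(n : ℤ)⟧')
      (fun x => x.hom) (fun x => x.hom) Abelian.Ext.homEquiv.bijective Abelian.Ext.homEquiv.bijective
      fun x => by
        show x.hom ≫ _ = (x.comp (Abelian.Ext.mk₀ ψ) (add_zero n)).hom
        rw [Abelian.Ext.comp_hom, Abelian.Ext.mk₀_hom, ShiftedHom.comp_mk₀]]
  refine (surjective_congr (extToHZ U M' n) (extToHZ U M n) (bijective_extToHZ U n M') (bijective_extToHZ U n M)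
    fun x => ?_).symm
  rw [extToHZ_comp, Abelian.Ext.mapExactFunctor_mk₀]
  rfl

variable {A : Type u} [CommRing A] [PreservesFiniteLimits (tilde.functor (CommRingCat.of A))] [IsNoetherianRing A]
  {Y : Scheme.{u}} [Y.Over (Spec (CommRingCat.of A))] [DCoh.HasRpush (Y ↘ Spec (CommRingCat.of A))]

/-- The comparison of `HDI` and `HZM`, naturally. -/
theorem surjective_map_iff_hdiMap (I : Ideal A) {M' M : Y.Modules} (ψ : M' ⟶ M) {K' K : Dual.D A}
    (e' : (DCoh.tildeD (CommRingCat.of A)).obj K' ≅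
      (DCoh.Rpush (Y ↘ Spec (CommRingCat.of A))).obj (DCoh.inD Y M'))
    (e : (DCoh.tildeD (CommRingCat.of A)).obj K ≅
      (DCoh.Rpush (Y ↘ Spec (CommRingCat.of A))).obj (DCoh.inD Y M))
    (φ : K' ⟶ K) (hφ : (DCoh.tildeD (CommRingCat.of A)).map φ ≫ e.hom =
      e'.hom ≫ (DCoh.Rpush (Y ↘ Spec (CommRingCat.of A))).map ((DerivedCategory.singleFunctor Y.Modules 0).map ψ))
    (n : ℕ) :
    Function.Surjective (LocCohZ.map (X := Y.carrier) ((toAbFunctor Y).map ψ) n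
        (le_top : (Y ↘ Spec (CommRingCat.of A)) ⁻¹ᵁ LocCoh.puncturedOpen A I ≤ ⊤)) ↔
      Function.Surjective (DN.hdiMap I φ (n : ℤ)).hom := by
  obtain ⟨s, rfl⟩ := RGam.exists_list I
  let f := Y ↘ Spec (CommRingCat.of A)
  let T := DCoh.tildeD (CommRingCat.of A)
  let P := DQCoh.KosPunct.U A s
  haveI := RGam.hasRgammaI (_root_.Ideal.ofList s)
  haveI : CxOX.HasRgammaZ P.ι :=
    DCat.hasRightDerivedFunctor_of_enoughKInj (DCat.modules_enoughKInj _) _
  haveI : CxOX.HasRgammaZ (f ⁻¹ᵁ P).ι :=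
    DCat.hasRightDerivedFunctor_of_enoughKInj (DCat.modules_enoughKInj _) _
  haveI := DCat.hasRpush P.ι
  haveI := DCat.hasRpush (f ⁻¹ᵁ P).ι
  obtain ⟨_, _⟩ := DCat.exists_commShift_Rpush f
  obtain ⟨hfull, hfaith, hess⟩ := DQCoh.tildeD_main (CommRingCat.of A)
  haveI := hfull
  haveI := hfaith
  let RI := DRing.RgammaI (_root_.Ideal.ofList s)
  let εI := DRing.RgammaIε (_root_.Ideal.ofList s)
  let RZ := CxOX.RgammaZ P.ι
  let εZ := CxOX.RgammaZToId P.ι
  have hc : ∀ L : Dual.D A, ∃ c : T.obj (RI.obj L) ⟶ RZ.obj (T.obj L),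
      IsIso c ∧ c ≫ εZ.app (T.obj L) = T.map (εI.app L) := by
    intro L
    obtain ⟨c, hc⟩ := (GammaZ.bijective_comp P.ι ((killed_iff_Tors s (RI.obj L)).2 (RGam.tors_RgammaI _ L)) (T.obj L)).2
      (T.map (εI.app L))
    obtain ⟨G₀, ⟨c₀⟩⟩ := (hess (RZ.obj (T.obj L))).1
      (GammaZ.isQCohD_RgammaZ P.ι ((hess (T.obj L)).2 ⟨L, ⟨Iso.refl _⟩⟩))
    have hG₀ : RGam.Tors (_root_.Ideal.ofList s) G₀ :=
      (killed_iff_Tors s G₀).1 (IsZero.of_iso (GammaZ.killed_RgammaZ P.ι _) ((DCoh.restrictD P.ι).mapIso c₀))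
    obtain ⟨g, hg⟩ := T.map_surjective (c₀.hom ≫ εZ.app (T.obj L))
    obtain ⟨q, hq⟩ := (RGam.bijective_comp_ε (_root_.Ideal.ofList s) hG₀ L).2 g
    dsimp only at hc hq
    refine ⟨c, ⟨c₀.inv ≫ T.map q, ?_, ?_⟩, hc⟩
    · obtain ⟨z, hz⟩ := T.map_surjective (c ≫ c₀.inv ≫ T.map q)
      rw [← hz, show z = 𝟙 _ from (RGam.bijective_comp_ε (_root_.Ideal.ofList s) (RGam.tors_RgammaI _ L) L).1
        (T.map_injective (by
          show T.map (z ≫ εI.app L) = T.map (𝟙 _ ≫ εI.app L)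
          rw [Functor.map_comp, hz, Category.assoc, Category.assoc, ← Functor.map_comp, hq, hg, Category.id_comp,
            Iso.inv_hom_id_assoc, hc])), CategoryTheory.Functor.map_id]
    · refine (GammaZ.bijective_comp P.ι (GammaZ.killed_RgammaZ P.ι _) (T.obj L)).1 ?_
      show ((c₀.inv ≫ T.map q) ≫ c) ≫ εZ.app _ = 𝟙 _ ≫ εZ.app _
      rw [Category.assoc, hc, Category.assoc, ← Functor.map_comp, hq, hg, Iso.inv_hom_id_assoc, Category.id_comp]
  choose c hciso hc using hc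
  let RY := CxOX.RgammaZ (f ⁻¹ᵁ P).ι
  let εY := CxOX.RgammaZToId (f ⁻¹ᵁ P).ι
  have hd : ∀ (N : DCoh.D Y) (L : Dual.D A) (e₀ : T.obj L ≅ (DCoh.Rpush f).obj N),
      ∃ d : (DCoh.Rpush f).obj (RY.obj N) ⟶ T.obj (RI.obj L), IsIso d ∧
        d ≫ T.map (εI.app L) ≫ e₀.hom = (DCoh.Rpush f).map (εY.app N) := by
    intro N L e₀
    obtain ⟨⟨α, hα⟩, hiso⟩ := GammaZ.Rpush_RgammaZ f P N
    haveI := hiso α hα
    haveI := hciso L
    refine ⟨α ≫ RZ.map e₀.inv ≫ inv (c L), inferInstance, ?_⟩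
    rw [← hc L]
    simp only [Category.assoc, IsIso.inv_hom_id_assoc]
    have hn := εZ.naturality e₀.inv
    simp only [Functor.id_map] at hn
    rw [← Category.assoc (RZ.map e₀.inv)]
    erw [hn]
    rw [Category.assoc, Iso.inv_hom_id]
    erw [Category.comp_id]
    exact hα
  obtain ⟨d', hd'iso, hd'⟩ := hd (DCoh.inD Y M') K' e'
  obtain ⟨d, hdiso, hd⟩ := hd (DCoh.inD Y M) K e
  haveI := hd'iso
  haveI := hdiso
  let Sψ := (DerivedCategory.singleFunctor Y.Modules 0).map ψ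
  have hsq : (DCoh.Rpush f).map (RY.map Sψ) ≫ d = d' ≫ T.map (RI.map φ) := by
    have hA := GammaZ.killed_Rpush f P (GammaZ.killed_RgammaZ (f ⁻¹ᵁ P).ι (DCoh.inD Y M'))
    haveI := hciso K
    apply (cancel_mono (c K)).1
    refine (GammaZ.bijective_comp P.ι hA (T.obj K)).1 ((cancel_mono e.hom).1 ?_)
    show ((((DCoh.Rpush f).map (RY.map Sψ) ≫ d) ≫ c K) ≫ εZ.app _) ≫ e.hom =
      (((d' ≫ T.map (RI.map φ)) ≫ c K) ≫ εZ.app _) ≫ e.hom
    simp only [Category.assoc, reassoc_of% (hc K)]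
    rw [hd, ← Functor.map_comp]
    have h1 : RI.map φ ≫ εI.app K = εI.app K' ≫ φ := εI.naturality φ
    rw [← reassoc_of% (T.map_comp (RI.map φ) (εI.app K)), h1, T.map_comp, Category.assoc, hφ,
      reassoc_of% hd', ← Functor.map_comp]
    congr 1
    exact εY.naturality Sψ
  rw [DN.surjective_hdiMap_iff_RgammaI]
  refine (surjective_map_iff_sections (f ⁻¹ᵁ P) ψ n).trans ?_
  -- down to the base
  obtain ⟨v, hv⟩ := RingBase.exists_transpose (R := A) (X := Y)
  let R' := RY.obj (DCoh.inD Y M')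
  let R := RY.obj (DCoh.inD Y M)
  let k' : T.obj ((RI.obj K')⟦(n : ℤ)⟧) ≅ (DCoh.Rpush f).obj (R'⟦(n : ℤ)⟧) :=
    (T.commShiftIso (n : ℤ)).app _ ≪≫ (shiftFunctor _ (n : ℤ)).mapIso (asIso d').symm ≪≫
      (((DCoh.Rpush f).commShiftIso (n : ℤ)).app R').symm
  let k : T.obj ((RI.obj K)⟦(n : ℤ)⟧) ≅ (DCoh.Rpush f).obj (R⟦(n : ℤ)⟧) :=
    (T.commShiftIso (n : ℤ)).app _ ≪≫ (shiftFunctor _ (n : ℤ)).mapIso (asIso d).symm ≪≫
      (((DCoh.Rpush f).commShiftIso (n : ℤ)).app R).symm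
  have hk : k'.hom ≫ (DCoh.Rpush f).map ((RY.map Sψ)⟦(n : ℤ)⟧') = T.map ((RI.map φ)⟦(n : ℤ)⟧') ≫ k.hom := by
    simp only [k, k', Iso.trans_hom, Iso.app_hom, Iso.symm_hom, Functor.mapIso_hom, asIso_inv, Category.assoc]
    rw [Functor.commShiftIso_hom_naturality_assoc T (RI.map φ) (n : ℤ)]
    congr 1
    refine Eq.trans (congrArg (_ ≫ ·) (Functor.commShiftIso_inv_naturality (DCoh.Rpush f) (RY.map Sψ) (n : ℤ)).symm) ?_
    rw [← Functor.map_comp_assoc, ← Functor.map_comp_assoc]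
    congr 2
    rw [IsIso.eq_comp_inv, Category.assoc, hsq, IsIso.inv_hom_id_assoc]
  rw [surjective_congr (g := fun g : RingBase.PS A ⟶ (DCoh.Rpush f).obj (R'⟦(n : ℤ)⟧) =>
      g ≫ (DCoh.Rpush f).map ((RY.map Sψ)⟦(n : ℤ)⟧'))
      (fun y => v ≫ (DCoh.Rpush f).map y) (fun y => v ≫ (DCoh.Rpush f).map y) (hv _) (hv _)
      (fun y => by simp only [Functor.map_comp, Category.assoc]; rfl),
    ← surjective_congr (f := fun g : SerreTop.g₀ A ⟶ (RI.obj K')⟦(n : ℤ)⟧ => g ≫ (RI.map φ)⟦(n : ℤ)⟧')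
      (SerreTop.theta A k') (SerreTop.theta A k) (SerreTop.theta A k').bijective (SerreTop.theta A k).bijective
      (fun g => by
        show ((DQCoh.genIso _).inv ≫ T.map g ≫ k'.hom) ≫ _ = (DQCoh.genIso _).inv ≫ T.map (_ ≫ _) ≫ k.hom
        rw [Category.assoc, Category.assoc, hk, Functor.map_comp, Category.assoc])]
  let σ := fun L : Dual.D A =>
    (((DerivedCategory.homologyFunctor (ModuleCat.{u} A) 0).shiftIso (n : ℤ) 0 (n : ℤ) (by omega)).app L).toLinearEquiv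
  refine surjective_congr (fun g => σ _ (SerreTop.elt A _ g)) (fun g => σ _ (SerreTop.elt A _ g))
    ((σ _).bijective.comp (SerreTop.elt A _).bijective) ((σ _).bijective.comp (SerreTop.elt A _).bijective) fun g => ?_
  rw [SerreTop.elt_comp]
  exact (congrArg (fun q => q.hom (SerreTop.elt A _ g))
    (((DerivedCategory.homologyFunctor (ModuleCat.{u} A) 0).shiftIso (n : ℤ) 0 (n : ℤ) (by omega)).hom.naturality (RI.map φ))).symm

end Groth.Agent.LD6
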