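import Groth.Agent.LD6.Bridge
import Groth.Agent.Dual6Lib.ProperLocal
import Groth.Agent.DualLib.Nonvanishing
import Groth.Agent.DualLib.CxDualityHDI
import Groth.Agent.DualLib.Shift
import Groth.Agent.Dual22Lib.SupportAdj
import Groth.Agent.Matlis6.HullExistence
import Groth.Agent.LocCoh.CanonicalCM
import Groth.Agent.SerreDual.TwistEquiv
import Groth.Agent.SerreDual.ExtLocFree
import Groth.Agent.PicLib.FormalGen
import Groth.Agent.PicLib.PicMonoid
import Groth.Agent.AmpleLib.Power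
import Groth.Agent.DQCoh.Local

/-!
# Duality between twists of the dualizing sheaf and cohomology with supports in the closed fibre
-/

set_option autoImplicit false
set_option backward.isDefEq.respectTransparency false
set_option linter.style.haveILetI false
set_option linter.unusedSectionVars false
set_option synthInstance.maxHeartbeats 200000
set_option maxHeartbeats 1000000

universe u

open CategoryTheory CategoryTheory.Limits AlgebraicGeometry Opposite
open Groth.Agent.Dual22Lib Groth.Agent.DualLib Groth.Agent.Coherent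

attribute [local instance] HasDerivedCategory.standard

namespace Groth.Agent.LD6

/-- The lowest degree of a centred dualizing complex is minus the dimension. -/
theorem exists_lowest {X : Scheme.{u}} [CompactSpace X]
    [∀ (U V : Scheme.{u}) (j : U ⟶ V) [IsOpenImmersion j], PreservesFiniteLimits (Scheme.Modules.restrictFunctor j)]
    [∀ (S : CommRingCat.{u}), PreservesFiniteLimits (tilde.functor S)] {G : DCoh.D X}
    (hC : ∀ c : X, IsClosed ({c} : Set X) → Nonempty (Dual6Lib.ProperLocal.Centred G c))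
    (n : ℕ) (hdim : topologicalKrullDim X = (n : WithBot ℕ∞)) :
    ∃ x : X, Nontrivial ((DCoh.HD G (-(n : ℤ))).presheaf.stalk x) := by
  have hn : (n : WithBot ℕ∞) ≤ topologicalKrullDim ↥(Set.univ : Set X) := by
    rw [← hdim]
    exact le_of_eq (IsHomeomorph.topologicalKrullDim_eq _ (Homeomorph.Set.univ X).symm.isHomeomorph)
  obtain ⟨s, hs⟩ := Order.le_krullDim_iff.1 hn
  obtain ⟨η, -, hη⟩ := Dual6Lib.ProperLocal.exists_points Set.univ isClosed_univ s
  obtain ⟨c, C, y, hy, hyc, hd⟩ := Dual6Lib.ProperLocal.exists_chain_chart hC η hη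
  obtain ⟨q0, hq0, hq0y⟩ := Ideal.exists_minimalPrimes_le (bot_le : (⊥ : Ideal C.B) ≤ y.asIdeal)
  let q : PrimeSpectrum C.B := ⟨q0, hq0.1.1⟩
  have hmin : ∀ r ∈ Module.support C.B C.B, r ≤ q → r = q := fun r _ hr =>
    PrimeSpectrum.ext (le_antisymm hr (hq0.2 ⟨r.2, bot_le⟩ hr))
  have hnt := (Dual6Lib.ProperLocal.mem_HD_support C q _).2
    (DualLib.mem_support_of_minimal' C.hωB le_rfl C.B hmin (Dual6Lib.ProperLocal.mem_self q))
  have h1 := (Dual6Lib.ProperLocal.bounds hC n hdim _ _ hnt).1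
  have h2 := DualLib.deg_mono C.hωB (show q ≤ y from hq0y)
  rw [show deg C.hωB q = -(n : ℤ) by omega] at hnt
  exact ⟨_, hnt⟩

theorem subsingleton_ext_congr {C : Type (u + 1)} [Category.{u} C] [Abelian C] [HasExt.{u} C] {A A' B B' : C}
    (a : A ≅ A') (b : B ≅ B') (i : ℕ) :
    Subsingleton (Abelian.Ext A B i) ↔ Subsingleton (Abelian.Ext A' B' i) := by
  refine Equiv.subsingleton_congr ((Abelian.Ext.homEquiv).trans (Equiv.trans ?_ Abelian.Ext.homEquiv.symm))
  exact Iso.homCongr ((DerivedCategory.singleFunctor C 0).mapIso a)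
    ((shiftFunctor _ ((i : ℕ) : ℤ)).mapIso ((DerivedCategory.singleFunctor C 0).mapIso b))

variable {X : Scheme.{u}}

/-- `H^i(ω ⊗ L)` against maps out of the inverse of `L`. -/
theorem subsingleton_HH_twist_iff {L M : X.Modules} (hL : PicF.IsInvertible L) (hM : PicF.IsInvertible M)
    (e : CohB1.tensorMod L M ≅ Coh.structureModule X) (ω : X.Modules) (i : ℕ) :
    Subsingleton (Coh.HH X (CohB1.tensorMod ω L) i) ↔
      Subsingleton (((DerivedCategory.singleFunctor X.Modules 0).obj M) ⟶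
        ((DerivedCategory.singleFunctor X.Modules 0).obj ω)⟦(i : ℤ)⟧) := by
  haveI := SerreDual.isEquivalence_twistF hL hM e
  haveI : EnoughInjectives X.Modules :=
    haveI : IsGrothendieckAbelian.{u} X.Modules := DCat.schemeModules_isGrothendieckAbelian X
    inferInstance
  haveI : (SerreDual.twistF M).PreservesInjectiveObjects := inferInstance
  obtain ⟨a⟩ := SerreDual.exists_cancelIso hL hM e
  let d : (SerreDual.twistF M).obj ((freeModOn X).obj ⊤) ≅ M :=
    (SerreDual.twistF M).mapIso (DQCoh.topStructIso X) ≪≫ AmpleLib.unitTensorIso M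
  rw [← (SerreDual.extHH (CohB1.tensorMod ω L) i).toEquiv.subsingleton_congr,
    (Equiv.ofBijective _ ((SerreDual.twistF M).mapExt_bijective_of_preservesInjectiveObjects
      ((freeModOn X).obj ⊤) (CohB1.tensorMod ω L) i)).subsingleton_congr,
    subsingleton_ext_congr d (show (SerreDual.twistF M).obj (CohB1.tensorMod ω L) ≅ ω from a.app ω) i]
  exact Abelian.Ext.homEquiv.subsingleton_congr

variable {A : Type u} [CommRing A] [IsNoetherianRing A] [IsLocalRing A]
  [PreservesFiniteLimits (tilde.functor (CommRingCat.of A))]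

/-- Vanishing of local cohomology is vanishing of maps into the normalized dualizing complex. -/
theorem subsingleton_HDI_iff {ω : Dual.D A} (hω : Dual.IsDualizing A ω) (hn : Dual.IsNormalized A ω)
    (K : Dual.D A) (hK : ∀ q, Module.Finite A (Dual.HD A K q)) (i : ℤ) :
    Subsingleton (Dual2.HDI A (IsLocalRing.maximalIdeal A) K i) ↔ Subsingleton (K ⟶ ω⟦(-i)⟧) := by
  obtain ⟨E₀, _, _, f₀, hf₀⟩ := Matlis6.exists_isInjectiveHull A (IsLocalRing.ResidueField A)
  have hE := Matlis6.of_isInjectiveHull_residueField hf₀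
  obtain ⟨Φ⟩ := CxDuality.nonempty_HDI_equiv hω hn hf₀ K hK i
  rw [Φ.toEquiv.subsingleton_congr]
  refine ⟨fun h => ⟨fun a b => sub_eq_zero.1 (by_contra fun hx => ?_)⟩,
    fun h => ⟨fun a b => LinearMap.ext fun x => by rw [Subsingleton.elim x 0, map_zero, map_zero]⟩⟩
  haveI := CxDuality.finite_hom hω K hK (-i)
  obtain ⟨m, π, hπ⟩ := Module.Finite.exists_fin' A (K ⟶ ω⟦(-i)⟧)
  let e := π.quotKerEquivOfSurjective hπ
  obtain ⟨φ, hφ⟩ := hE.exists_apply_ne_zero_local (x := e.symm (a - b)) (by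
    rw [Ne, LinearEquiv.map_eq_zero_iff]; exact hx)
  exact hφ (by
    have h0 : φ.comp e.symm.toLinearMap = 0 := Subsingleton.elim _ _
    exact LinearMap.congr_fun h0 (a - b))

variable [X.Over (Spec (CommRingCat.of A))] [IsProper (X ↘ Spec (CommRingCat.of A))]
  [DCoh.HasRpush (X ↘ Spec (CommRingCat.of A))]

/-- A model of `Rf_* M` over the base. -/
theorem exists_model {M : X.Modules} (hM : Coh.IsCoh M) :
    ∃ K : Dual.D A, (∀ q, Module.Finite A (Dual.HD A K q)) ∧
      Nonempty ((DCoh.tildeD (CommRingCat.of A)).obj K ≅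
        (DCoh.Rpush (X ↘ Spec (CommRingCat.of A))).obj (DCoh.inD X M)) := by
  let f := X ↘ Spec (CommRingCat.of A)
  haveI : IsNoetherian (Spec (CommRingCat.of A)) := {}
  haveI : IsLocallyNoetherian X := LocallyOfFiniteType.isLocallyNoetherian f
  have hc : DCoh.IsCohD (DCoh.inD X M) := fun q => by
    by_cases hq : q = 0
    · subst hq
      exact Coherent.isCoh_iso (((DerivedCategory.singleFunctorCompHomologyFunctorIso X.Modules 0).app M)).symm hM
    · refine Coherent.isCoh_iso (IsZero.iso ?_ (isZero_zero X.Modules)).symm ((DQCoh.coh_ops X).1 _ (isZero_zero _))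
      rcases lt_or_gt_of_ne hq with h | h
      · exact DerivedCategory.isZero_of_isGE _ 0 q h
      · exact DerivedCategory.isZero_of_isLE _ 0 q h
  have hR := Dual22Lib.SupportAdj.isCohD_Rpush f (DCoh.inD X M) 0 hc
  obtain ⟨-, -, hQ⟩ := DQCoh.tildeD_main (CommRingCat.of A)
  obtain ⟨K, ⟨e⟩⟩ := (hQ _).1 fun q => (hR q).1
  refine ⟨K, fun q => ?_, ⟨e⟩⟩
  haveI := DQCoh.preservesFiniteColimits_tilde (CommRingCat.of A)
  obtain ⟨η⟩ := DQCoh.nonempty_homology_natIso (tilde.functor (CommRingCat.of A)) q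
  exact (Props12.isFT_tilde_iff (R := CommRingCat.of A) ((DerivedCategory.homologyFunctor (ModuleCat.{u} A) q).obj K)).1
    (Coherent.isCoh_iso (((DerivedCategory.homologyFunctor _ q).mapIso e).symm ≪≫ η.app K) (hR q)).2

/-- The criterion, with the degree made explicit. -/
theorem twist_vanish_iff (ωR : Dual.D A) (hω : Dual.IsDualizing A ωR)
    (W : DCoh.DQCoh (Spec (CommRingCat.of A)))
    (hW : Nonempty (W.obj ≅ (DCoh.tildeD (CommRingCat.of A)).obj ωR))
    (h : DCoh.RpushPreservesQCoh (X ↘ Spec (CommRingCat.of A)))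
    (a : DCoh.DQCoh (Spec (CommRingCat.of A)) ⥤ DCoh.DQCoh X)
    (adj : DCoh.RpushQ (X ↘ Spec (CommRingCat.of A)) h ⊣ a)
    (d : ℤ) (hconc : ∀ j : ℤ, j ≠ d → IsZero (DCoh.HD (a.obj W).obj j))
    (n : ℕ) (hdim : topologicalKrullDim X = (n : WithBot ℕ∞))
    (L M : X.Modules) (hL : PicF.IsInvertible L) (e : CohB1.tensorMod L M ≅ Coh.structureModule X)
    (i j : ℕ) (hij : i + j = n) :
    Subsingleton (Coh.HH X (CohB1.tensorMod (DCoh.HD (a.obj W).obj d) L) i) ↔
      Subsingleton (LocCohZ.HZM X M j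
        ((X ↘ Spec (CommRingCat.of A)) ⁻¹ᵁ LocCoh.puncturedOpen A (IsLocalRing.maximalIdeal A))) := by
  let f := X ↘ Spec (CommRingCat.of A)
  let T := DCoh.tildeD (CommRingCat.of A)
  obtain ⟨s, hs⟩ := DualLib.exists_normalized hω
  have hωs := DualLib.isDualizing_shift hω s
  haveI : IsNoetherian (Spec (CommRingCat.of A)) := {}
  haveI : IsLocallyNoetherian X := LocallyOfFiniteType.isLocallyNoetherian f
  haveI : CompactSpace X := QuasiCompact.compactSpace_of_compactSpace f
  haveI : ∀ (S : CommRingCat.{u}), PreservesFiniteLimits (tilde.functor S) := fun S =>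
    AffSchLib.preservesFiniteLimits_tilde S
  haveI : ∀ (U V : Scheme.{u}) (j : U ⟶ V) [IsOpenImmersion j],
      PreservesFiniteLimits (Scheme.Modules.restrictFunctor j) := fun U V j _ =>
    haveI := DCat.JShriek.preservesLimits_restrict j
    inferInstance
  obtain ⟨_, _⟩ := DCat.exists_commShift_Rpush f
  letI : (DCoh.RpushQ f h).CommShift ℤ :=
    inferInstanceAs ((ObjectProperty.lift (AdjGeom.qcD (Spec (CommRingCat.of A)))
      (ObjectProperty.ι (AdjGeom.qcD X) ⋙ DCoh.Rpush f) (fun K => h K.obj K.property)).CommShift ℤ)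
  letI : a.CommShift ℤ := adj.rightAdjointCommShift ℤ
  obtain ⟨eW⟩ := hW
  let G := (a.obj W).obj
  let sh : ∀ k : ℤ, (a.obj (W⟦k⟧)).obj ≅ G⟦k⟧ := fun k =>
    (ObjectProperty.ι _).mapIso ((a.commShiftIso k).app W) ≪≫ ((ObjectProperty.ι _).commShiftIso k).app (a.obj W)
  let wI : ∀ k : ℤ, (W⟦k⟧).obj ≅ T.obj (ωR⟦k⟧) := fun k =>
    ((ObjectProperty.ι _).commShiftIso k).app W ≪≫ (shiftFunctor _ k).mapIso eW ≪≫ ((T.commShiftIso k).app ωR).symm
  -- numerology
  have hd : d = s - (n : ℤ) := by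
    obtain ⟨x, hx⟩ := exists_lowest
      (fun c hc => Dual6Lib.ProperLocal.nonempty_centred h a adj (W⟦s⟧) hωs hs ⟨wI s⟩ c hc) n hdim
    by_contra hne
    have hz : IsZero (DCoh.HD (a.obj (W⟦s⟧)).obj (-(n : ℤ))) :=
      (hconc (s + -(n : ℤ)) (by omega)).of_iso
        ((DerivedCategory.homologyFunctor X.Modules (-(n : ℤ))).mapIso (sh s) ≪≫
          ((DerivedCategory.homologyFunctor X.Modules 0).shiftIso s (-(n : ℤ)) (s + -(n : ℤ)) rfl).app G)
    exact not_nontrivial_iff_subsingleton.2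
      (DCat.SuppOpen.subsingleton_of_isZero_stalkFunctor _ x ((DerSch.stalkFunctor X x).map_isZero hz)) hx
  -- concentration
  haveI : (G⟦d⟧).IsGE 0 := (DerivedCategory.isGE_iff _ _).2 fun q hq =>
    (hconc (d + q) (by omega)).of_iso
      (((DerivedCategory.homologyFunctor X.Modules 0).shiftIso d q (d + q) rfl).app G)
  haveI : (G⟦d⟧).IsLE 0 := (DerivedCategory.isLE_iff _ _).2 fun q hq =>
    (hconc (d + q) (by omega)).of_iso
      (((DerivedCategory.homologyFunctor X.Modules 0).shiftIso d q (d + q) rfl).app G)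
  obtain ⟨N, ⟨eN⟩⟩ := DerivedCategory.exists_iso_singleFunctor_obj_of_isGE_of_isLE (G⟦d⟧) 0
  let c₀ : DCoh.HD G d ≅ N :=
    (Groth.Agent.DualLib.Nonvanish.hdShift G d).symm ≪≫ (DerivedCategory.homologyFunctor X.Modules 0).mapIso eN ≪≫
      (DerivedCategory.singleFunctorCompHomologyFunctorIso X.Modules 0).app N
  let eω : (DerivedCategory.singleFunctor X.Modules 0).obj (DCoh.HD G d) ≅ G⟦d⟧ :=
    (DerivedCategory.singleFunctor X.Modules 0).mapIso c₀ ≪≫ eN.symm
  -- the inverse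
  have hM : PicF.IsInvertible M := PicLib.PicM.isInvertible_of_tensor hL fun y => by
    obtain ⟨U, hy, ⟨e₁⟩⟩ := AmpleLib.isInvertible_structureModule (X := X) y
    exact ⟨U, hy, ⟨(Scheme.Modules.restrictFunctor U.ι).mapIso e ≪≫ e₁⟩⟩
  have hMc : Coh.IsCoh M := PicLib.isCoh_of_isInvertible hM
  obtain ⟨K, hK, ⟨eK⟩⟩ := exists_model (A := A) hMc
  let Mq : DCoh.DQCoh X := ⟨DCoh.inD X M, @FlatBC14.isQCohD_inD X M hMc.1⟩
  obtain ⟨hfull, hfaith, -⟩ := DQCoh.tildeD_main (CommRingCat.of A)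
  haveI := hfull
  haveI := hfaith
  obtain ⟨Φ⟩ := nonempty_HDI_HZM (IsLocalRing.maximalIdeal A) M K eK j
  rw [subsingleton_HH_twist_iff hL hM e (DCoh.HD G d) i, ← Φ.toEquiv.subsingleton_congr,
    subsingleton_HDI_iff hωs hs K hK (j : ℤ)]
  let k : ℤ := d + i
  refine Equiv.subsingleton_congr ?_
  let E₁ : ((DerivedCategory.singleFunctor X.Modules 0).obj M ⟶
      ((DerivedCategory.singleFunctor X.Modules 0).obj (DCoh.HD G d))⟦(i : ℤ)⟧) ≃ (Mq.obj ⟶ (a.obj (W⟦k⟧)).obj) :=
    Iso.homCongr (Iso.refl _) ((shiftFunctor _ (i : ℤ)).mapIso eω ≪≫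
      ((shiftFunctorAdd' (DCoh.D X) d (i : ℤ) k rfl).app G).symm ≪≫ (sh k).symm)
  let E₂ : (Mq.obj ⟶ (a.obj (W⟦k⟧)).obj) ≃ ((DCoh.Rpush f).obj (DCoh.inD X M) ⟶ (W⟦k⟧).obj) :=
    ((ObjectProperty.fullyFaithfulι _).homEquiv).symm.trans
      ((adj.homEquiv Mq (W⟦k⟧)).symm.trans (ObjectProperty.fullyFaithfulι _).homEquiv)
  let E₃ : ((DCoh.Rpush f).obj (DCoh.inD X M) ⟶ (W⟦k⟧).obj) ≃ (K ⟶ (ωR⟦s⟧)⟦-(j : ℤ)⟧) :=
    (Iso.homCongr eK.symm (wI k)).trans ((Functor.FullyFaithful.ofFullyFaithful T).homEquiv.symm.trans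
      (Iso.homCongr (Iso.refl K) ((shiftFunctorAdd' (Dual.D A) s (-(j : ℤ)) k (by omega)).app ωR)))
  exact (E₁.trans E₂).trans E₃

end Groth.Agent.LD6
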