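import Groth.Agent.SerreDual.ExtLocFree
import Groth.Agent.DualLib.RingBase

/-!
# `Ext^q(F, N) ≅ H^q(Hom(F, N))` over any base ring
-/

set_option autoImplicit false
set_option linter.style.haveILetI false
set_option backward.isDefEq.respectTransparency.types false

universe u

open CategoryTheory CategoryTheory.Abelian CategoryTheory.Limits AlgebraicGeometry Opposite TopologicalSpace
open Groth.Agent.Coherent Groth.Agent.EulerLib Groth.Agent.PicLib Groth.Agent.AmpleLib Groth.Agent.SerreDual

namespace Groth.Agent.LD6.ExtLin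

variable {X : Scheme.{u}} {F : X.Modules} (k : Type u) [CommRing k] [X.Over (Spec (CommRingCat.of k))]

theorem linear_internalHom (F : X.Modules) : (internalHomFunctor F).Linear k := by
  refine ⟨fun {M N} f c => Scheme.Modules.hom_ext _ _ fun U => ConcreteCategory.hom_ext _ _ fun ψ => ?_⟩
  refine Eq.trans ?_ (KLin.smul_app_apply c ((internalHomFunctor F).map f) U ψ).symm
  refine locHom_ext (φ := secHom _) (ψ := secHom _) fun W hW a => ?_
  refine (ev_internalHomMap F (c • f) ψ W hW a).trans ?_
  refine (KLin.smul_app_apply c f W _).trans ?_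
  refine Eq.trans ?_ (ev_smul _ (secHom _) W hW a).symm
  refine congr (congrArg _ ?_) (ev_internalHomMap F f ψ W hW a).symm
  exact (ConcreteCategory.congr_hom (X.presheaf.map_comp (homOfLE (le_top (a := U))).op (homOfLE hW).op) _)

variable [HasExt.{u} X.Modules]

/-- `Ext^q(F, N) ⟶ Ext^q(O, Hom(F, N))`. -/
noncomputable def extToHom (hF : FlatMod.IsFinLocFree F) (N : X.Modules) (q : ℕ) :
    Ext F N q →ₗ[k] Ext ((freeModOn X).obj ⊤) ((internalHomFunctor F).obj N) q :=
  haveI := linear_internalHom k F
  haveI := preservesFiniteLimits_internalHom F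
  haveI := preservesFiniteColimits_internalHom hF
  (Ext.mk₀ (idHom F)).precompOfLinear k _ (zero_add q) ∘ₗ (internalHomFunctor F).mapExtLinearMap k F N q

theorem bijective_extToHom (hF : FlatMod.IsFinLocFree F) : ∀ (q : ℕ) (N : X.Modules),
    Function.Bijective (extToHom k hF N q) := by
  haveI := linear_internalHom k F
  haveI := preservesFiniteLimits_internalHom F
  haveI := preservesFiniteColimits_internalHom hF
  haveI := preservesInjectives_internalHom hF
  haveI : EnoughInjectives X.Modules :=
    haveI : IsGrothendieckAbelian.{u} X.Modules := DCat.schemeModules_isGrothendieckAbelian X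
    inferInstance
  have happ : ∀ (N : X.Modules) (q : ℕ) (x : Ext F N q), extToHom k hF N q x =
      (Ext.mk₀ (idHom F)).comp (x.mapExactFunctor (internalHomFunctor F)) (zero_add q) := fun _ _ _ => rfl
  have hmk : ∀ (N : X.Modules) (f : F ⟶ N), extToHom k hF N 0 (Ext.mk₀ f) =
      Ext.mk₀ (idHom F ≫ (internalHomFunctor F).map f) := fun N f => by
    rw [happ, Ext.mapExactFunctor_mk₀, Ext.mk₀_comp_mk₀]
  have hnat : ∀ {N N' : X.Modules} {a b c : ℕ} (x : Ext F N a) (y : Ext N N' b) (h : a + b = c),
      extToHom k hF N' c (x.comp y h) =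
        (extToHom k hF N a x).comp (y.mapExactFunctor (internalHomFunctor F)) h := fun x y h => by
    rw [happ, happ, Ext.mapExactFunctor_comp]
    exact (Ext.comp_assoc _ _ _ (zero_add _) h (by omega)).symm
  intro q
  induction q with
  | zero =>
    intro N
    have hb := bijective_idHom_comp F N
    refine ⟨fun x y h => ?_, fun z => ?_⟩
    · obtain ⟨f, rfl⟩ := (Ext.mk₀_bijective _ _).2 x
      obtain ⟨g, rfl⟩ := (Ext.mk₀_bijective _ _).2 y
      rw [hmk, hmk] at h
      exact congrArg Ext.mk₀ (hb.1 ((Ext.mk₀_bijective _ _).1 h))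
    · obtain ⟨g, rfl⟩ := (Ext.mk₀_bijective _ _).2 z
      obtain ⟨f, rfl⟩ := hb.2 g
      exact ⟨Ext.mk₀ f, hmk N f⟩
  | succ q ih =>
    intro N
    let I : InjectivePresentation N := Classical.arbitrary _
    let S := ShortComplex.mk _ _ (cokernel.condition I.f)
    haveI : Injective S.X₂ := I.injective
    haveI : Injective ((internalHomFunctor F).obj S.X₂) :=
      (preservesInjectives_internalHom hF).injective_obj I.injective
    have hS : S.ShortExact := { exact := ShortComplex.exact_cokernel I.f }
    have hS' := hS.map_of_exact (internalHomFunctor F)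
    haveI : Injective (S.map (internalHomFunctor F)).X₂ := ‹Injective ((internalHomFunctor F).obj S.X₂)›
    have hδ : ∀ x : Ext F S.X₃ q, extToHom k hF S.X₁ (q + 1) (x.comp hS.extClass rfl) =
        (extToHom k hF S.X₃ q x).comp hS'.extClass rfl := fun x => by
      rw [hnat x hS.extClass rfl, Ext.mapExactFunctor_extClass]
      rfl
    show Function.Bijective (extToHom k hF S.X₁ (q + 1))
    refine ⟨(injective_iff_map_eq_zero _).2 fun w hw => ?_, fun z => ?_⟩
    · obtain ⟨x, rfl⟩ := Ext.covariant_sequence_exact₁ _ hS w (Ext.eq_zero_of_injective _) rfl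
      rw [hδ] at hw
      obtain ⟨v, hv⟩ := Ext.covariant_sequence_exact₃ _ hS' (extToHom k hF S.X₃ q x) rfl hw
      obtain ⟨u, rfl⟩ := (ih S.X₂).2 v
      have hx : u.comp (Ext.mk₀ S.g) (add_zero q) = x := (ih S.X₃).1 (by
        rw [hnat u (Ext.mk₀ S.g) (add_zero q), Ext.mapExactFunctor_mk₀]
        exact hv)
      rw [← hx, Ext.comp_assoc_of_second_deg_zero, hS.comp_extClass, Ext.comp_zero]
    · obtain ⟨z', hz'⟩ := Ext.covariant_sequence_exact₁ _ hS' z (Ext.eq_zero_of_injective _) rfl
      obtain ⟨x, hx⟩ := (ih S.X₃).2 z'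
      refine ⟨x.comp hS.extClass rfl, ?_⟩
      rw [hδ, hx]
      exact hz'

/-- `Ext^q(F, N) ≅ H^q(X, Hom(F, N))`. -/
noncomputable def extLocFreeEquiv (hF : FlatMod.IsFinLocFree F) (N : X.Modules) (q : ℕ) :
    Ext F N q ≃ₗ[k] Coh.HH X (internalHom F N) q :=
  (LinearEquiv.ofBijective (extToHom k hF N q) (bijective_extToHom k hF q N)).trans
    (DualLib.RingBase.extHHLin (R := k) (internalHom F N) q)
end Groth.Agent.LD6.ExtLin
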