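import Groth.Agent.LD6.Dual
import Groth.Agent.LD6.ExtLin
import Groth.Agent.DualLib.EndIso
import Groth.Agent.EulerPn5.Bott
import Groth.Agent.Coherent.CohBC.HomSheaf
import Groth.Agent.Coherent.CohBC.PushStructure

/-!
# Duality between cohomology of twists of the dualizing sheaf and local cohomology, linearly
-/

set_option autoImplicit false
set_option backward.isDefEq.respectTransparency false
set_option linter.style.haveILetI false
set_option linter.unusedSectionVars false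
set_option synthInstance.maxHeartbeats 200000
set_option maxHeartbeats 1000000

universe u

open CategoryTheory CategoryTheory.Limits AlgebraicGeometry Opposite
open Groth.Agent.Dual22Lib Groth.Agent.DualLib Groth.Agent.Coherent

attribute [local instance] HasDerivedCategory.standard Groth.Agent.SerreDualA.hhAddCommGroup Groth.Agent.SerreDualA.hhModule

namespace Groth.Agent.LD6

variable {A : Type u} [CommRing A] [IsNoetherianRing A] [IsLocalRing A]
  [PreservesFiniteLimits (tilde.functor (CommRingCat.of A))]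
  {X : Scheme.{u}} [X.Over (Spec (CommRingCat.of A))] [IsProper (X ↘ Spec (CommRingCat.of A))]
  [DCoh.HasRpush (X ↘ Spec (CommRingCat.of A))]

/-- The degree of the relative dualizing sheaf and the sheaf itself. -/
theorem exists_degree_iso (ωR : Dual.D A) (hω : Dual.IsDualizing A ωR)
    (W : DCoh.DQCoh (Spec (CommRingCat.of A)))
    (hW : Nonempty (W.obj ≅ (DCoh.tildeD (CommRingCat.of A)).obj ωR))
    (h : DCoh.RpushPreservesQCoh (X ↘ Spec (CommRingCat.of A)))
    (a : DCoh.DQCoh (Spec (CommRingCat.of A)) ⥤ DCoh.DQCoh X)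
    (adj : DCoh.RpushQ (X ↘ Spec (CommRingCat.of A)) h ⊣ a)
    (d : ℤ) (hconc : ∀ j : ℤ, j ≠ d → IsZero (DCoh.HD (a.obj W).obj j))
    (n : ℕ) (hdim : topologicalKrullDim X = (n : WithBot ℕ∞)) :
    ∃ s : ℤ, Dual.IsDualizing A (ωR⟦s⟧) ∧ Dual.IsNormalized A (ωR⟦s⟧) ∧ d = s - (n : ℤ) ∧
      ∀ j : ℤ, Nonempty (((DerivedCategory.singleFunctor X.Modules 0).obj (DCoh.HD (a.obj W).obj d))⟦j⟧ ≅
          (a.obj (W⟦d + j⟧)).obj) ∧
        Nonempty ((W⟦d + j⟧).obj ≅ (DCoh.tildeD (CommRingCat.of A)).obj (ωR⟦d + j⟧)) := by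
  let f := X ↘ Spec (CommRingCat.of A)
  let T := DCoh.tildeD (CommRingCat.of A)
  obtain ⟨s, hs⟩ := DualLib.exists_normalized hω
  have hωs := DualLib.isDualizing_shift hω s
  haveI : IsNoetherian (Spec (CommRingCat.of A)) := {}
  haveI : IsLocallyNoetherian X := LocallyOfFiniteType.isLocallyNoetherian f
  haveI : CompactSpace X := QuasiCompact.compactSpace_of_compactSpace f
  haveI : ∀ (S : CommRingCat.{u}), PreservesFiniteLimits (tilde.functor S) := fun S =>
    AffSchLib.preservesFiniteLimits_tilde S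
  haveI : ∀ (U V : Scheme.{u}) (j : U ⟶ V) [IsOpenImmersion j],
      PreservesFiniteLimits (Scheme.Modules.restrictFunctor j) := fun U V j _ =>
    haveI := DCat.JShriek.preservesLimits_restrict j
    inferInstance
  obtain ⟨_, _⟩ := DCat.exists_commShift_Rpush f
  letI : (DCoh.RpushQ f h).CommShift ℤ :=
    inferInstanceAs ((ObjectProperty.lift (AdjGeom.qcD (Spec (CommRingCat.of A)))
      (ObjectProperty.ι (AdjGeom.qcD X) ⋙ DCoh.Rpush f) (fun K => h K.obj K.property)).CommShift ℤ)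
  letI : a.CommShift ℤ := adj.rightAdjointCommShift ℤ
  obtain ⟨eW⟩ := hW
  let G := (a.obj W).obj
  let sh : ∀ k : ℤ, (a.obj (W⟦k⟧)).obj ≅ G⟦k⟧ := fun k =>
    (ObjectProperty.ι _).mapIso ((a.commShiftIso k).app W) ≪≫ ((ObjectProperty.ι _).commShiftIso k).app (a.obj W)
  let wI : ∀ k : ℤ, (W⟦k⟧).obj ≅ T.obj (ωR⟦k⟧) := fun k =>
    ((ObjectProperty.ι _).commShiftIso k).app W ≪≫ (shiftFunctor _ k).mapIso eW ≪≫ ((T.commShiftIso k).app ωR).symm
  have hd : d = s - (n : ℤ) := by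
    obtain ⟨x, hx⟩ := exists_lowest
      (fun c hc => Dual6Lib.ProperLocal.nonempty_centred h a adj (W⟦s⟧) hωs hs ⟨wI s⟩ c hc) n hdim
    by_contra hne
    have hz : IsZero (DCoh.HD (a.obj (W⟦s⟧)).obj (-(n : ℤ))) :=
      (hconc (s + -(n : ℤ)) (by omega)).of_iso
        ((DerivedCategory.homologyFunctor X.Modules (-(n : ℤ))).mapIso (sh s) ≪≫
          ((DerivedCategory.homologyFunctor X.Modules 0).shiftIso s (-(n : ℤ)) (s + -(n : ℤ)) rfl).app G)
    exact not_nontrivial_iff_subsingleton.2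
      (DCat.SuppOpen.subsingleton_of_isZero_stalkFunctor _ x ((DerSch.stalkFunctor X x).map_isZero hz)) hx
  haveI : (G⟦d⟧).IsGE 0 := (DerivedCategory.isGE_iff _ _).2 fun q hq =>
    (hconc (d + q) (by omega)).of_iso
      (((DerivedCategory.homologyFunctor X.Modules 0).shiftIso d q (d + q) rfl).app G)
  haveI : (G⟦d⟧).IsLE 0 := (DerivedCategory.isLE_iff _ _).2 fun q hq =>
    (hconc (d + q) (by omega)).of_iso
      (((DerivedCategory.homologyFunctor X.Modules 0).shiftIso d q (d + q) rfl).app G)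
  obtain ⟨N, ⟨eN⟩⟩ := DerivedCategory.exists_iso_singleFunctor_obj_of_isGE_of_isLE (G⟦d⟧) 0
  let c₀ : DCoh.HD G d ≅ N :=
    (Groth.Agent.DualLib.Nonvanish.hdShift G d).symm ≪≫ (DerivedCategory.homologyFunctor X.Modules 0).mapIso eN ≪≫
      (DerivedCategory.singleFunctorCompHomologyFunctorIso X.Modules 0).app N
  let eω : (DerivedCategory.singleFunctor X.Modules 0).obj (DCoh.HD G d) ≅ G⟦d⟧ :=
    (DerivedCategory.singleFunctor X.Modules 0).mapIso c₀ ≪≫ eN.symm
  exact ⟨s, hωs, hs, hd, fun j => ⟨⟨(shiftFunctor _ j).mapIso eω ≪≫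
    ((shiftFunctorAdd' (DCoh.D X) d j (d + j) rfl).app G).symm ≪≫ (sh (d + j)).symm⟩, ⟨wI (d + j)⟩⟩⟩

/-- The duality isomorphism. -/
theorem nonempty_dual_equiv (ωR : Dual.D A) (hω : Dual.IsDualizing A ωR)
    (W : DCoh.DQCoh (Spec (CommRingCat.of A)))
    (hW : Nonempty (W.obj ≅ (DCoh.tildeD (CommRingCat.of A)).obj ωR))
    (h : DCoh.RpushPreservesQCoh (X ↘ Spec (CommRingCat.of A)))
    (a : DCoh.DQCoh (Spec (CommRingCat.of A)) ⥤ DCoh.DQCoh X)
    (adj : DCoh.RpushQ (X ↘ Spec (CommRingCat.of A)) h ⊣ a)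
    (d : ℤ) (hconc : ∀ j : ℤ, j ≠ d → IsZero (DCoh.HD (a.obj W).obj j))
    (n : ℕ) (hdim : topologicalKrullDim X = (n : WithBot ℕ∞))
    {E : Type u} [AddCommGroup E] [Module A E] {ι : IsLocalRing.ResidueField A →ₗ[A] E}
    (hE : InjHull.IsInjectiveHull ι)
    (L : X.Modules) (hL : FlatMod.IsFinLocFree L) [DCoh.HasSheafHom L]
    (i j : ℕ) (hij : i + j = n) :
    Nonempty (LocCohZ.HZM X ((DCoh.sheafHom L).obj (Coh.structureModule X)) i
        ((X ↘ Spec (CommRingCat.of A)) ⁻¹ᵁ LocCoh.puncturedOpen A (IsLocalRing.maximalIdeal A)) ≃+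
      (Coh.HH X (CohB1.tensorMod (DCoh.HD (a.obj W).obj d) L) j →ₗ[A] E)) := by
  let f := X ↘ Spec (CommRingCat.of A)
  let T := DCoh.tildeD (CommRingCat.of A)
  obtain ⟨s, hωs, hs, hd, hiso⟩ := exists_degree_iso ωR hω W hW h a adj d hconc n hdim
  obtain ⟨⟨eω⟩, ⟨wI⟩⟩ := hiso (j : ℤ)
  let N := DCoh.HD (a.obj W).obj d
  let D := internalHom L (Coh.structureModule X)
  have hD : FlatMod.IsFinLocFree D :=
    CohBC.isFinLocFree_internalHom hL (CohBC.isFinLocFree_structureModule _)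
  have hDc : Coh.IsCoh D := by
    haveI : IsNoetherian (Spec (CommRingCat.of A)) := {}
    haveI : IsLocallyNoetherian X := LocallyOfFiniteType.isLocallyNoetherian f
    exact CohBC.isCoh_of_isFinLocFree hD
  obtain ⟨K, hK, ⟨eK⟩⟩ := exists_model (A := A) hDc
  obtain ⟨Φ⟩ := nonempty_HDI_HZM (IsLocalRing.maximalIdeal A) D K eK i
  obtain ⟨Ψ⟩ := CxDuality.nonempty_HDI_equiv hωs hs hE K hK (i : ℤ)
  let Dq : DCoh.DQCoh X := ⟨DCoh.inD X D, @FlatBC14.isQCohD_inD X D hDc.1⟩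
  obtain ⟨hfull, hfaith, -⟩ := DQCoh.tildeD_main (CommRingCat.of A)
  haveI := hfull
  haveI := hfaith
  haveI := isIso_contract hL N
  haveI : HasExt.{u} X.Modules := Coherent.hasExtMod X
  let k : ℤ := d + (j : ℤ)
  let c : CohB1.tensorMod N L ≅ internalHom D N :=
    AmpleLib.tensorComm N L ≪≫ asIso (contractBilin L N).desc
  let L₀ : Coh.HH X (CohB1.tensorMod N L) j ≃ₗ[A] (Dq.obj ⟶
      ((DerivedCategory.singleFunctor X.Modules 0).obj N)⟦(j : ℤ)⟧) :=
    ((EulerPn5.hhEquiv A c j).trans (ExtLin.extLocFreeEquiv A hD N j).symm).trans (Abelian.Ext.homLinearEquiv (R := A))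
  let L₁ : (Dq.obj ⟶ ((DerivedCategory.singleFunctor X.Modules 0).obj N)⟦(j : ℤ)⟧) ≃ₗ[A]
      (Dq.obj ⟶ (a.obj (W⟦k⟧)).obj) := Linear.homCongr A (Iso.refl _) eω
  let v := (adj.counit.app (W⟦k⟧)).hom
  haveI := RingBase.additive_Rpush (R := A) (X := X)
  let L₂ : (Dq.obj ⟶ (a.obj (W⟦k⟧)).obj) ≃ₗ[A] ((DCoh.Rpush f).obj Dq.obj ⟶ (W⟦k⟧).obj) :=
    LinearEquiv.ofBijective
      { toFun := fun g => (DCoh.Rpush f).map g ≫ v
        map_add' := fun g g' => by rw [Functor.map_add, Preadditive.add_comp]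
        map_smul' := fun r g => by rw [RingBase.map_smul_Rpush, Linear.smul_comp]; rfl }
      (by
        have hb := (((ObjectProperty.fullyFaithfulι _).homEquiv (X := Dq) (Y := a.obj (W⟦k⟧))).symm.trans
          ((adj.homEquiv Dq (W⟦k⟧)).symm.trans (ObjectProperty.fullyFaithfulι _).homEquiv)).bijective
        convert hb using 1
        funext g
        simp [Adjunction.homEquiv_counit, v]
        rfl)
  let L₃ : ((DCoh.Rpush f).obj Dq.obj ⟶ (W⟦k⟧).obj) ≃ₗ[A] (T.obj K ⟶ T.obj (ωR⟦k⟧)) :=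
    Linear.homCongr A eK.symm wI
  let L₄ : (K ⟶ ωR⟦k⟧) ≃ₗ[A] (T.obj K ⟶ T.obj (ωR⟦k⟧)) :=
    LinearEquiv.ofBijective
      { toFun := fun g => T.map g
        map_add' := fun g g' => T.map_add
        map_smul' := fun r g => by
          show T.map (r • g) = r • T.map g
          rw [show r • g = (r • 𝟙 K) ≫ g by rw [Linear.smul_comp, Category.id_comp], Functor.map_comp,
            EndIso.tildeD_map_smul, Linear.smul_comp, Category.id_comp] }
      ((Functor.FullyFaithful.ofFullyFaithful T).map_bijective _ _)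
  let L₅ : (K ⟶ ωR⟦k⟧) ≃ₗ[A] (K ⟶ (ωR⟦s⟧)⟦-(i : ℤ)⟧) :=
    Linear.homCongr A (Iso.refl K) ((shiftFunctorAdd' (Dual.D A) s (-(i : ℤ)) k (by omega)).app ωR)
  let Λ := ((((L₀.trans L₁).trans L₂).trans L₃).trans L₄.symm).trans L₅
  let eD : Coh.toAb ((DCoh.sheafHom L).obj (Coh.structureModule X)) ≅ Coh.toAb D :=
    (toAbFunctor X).mapIso ((sheafHomIso L).app (Coh.structureModule X))
  exact ⟨(((Abelian.extFunctorObj (LocCohZ.zq (X := X.carrier) (le_top : ((X ↘ Spec (CommRingCat.of A)) ⁻¹ᵁ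
      LocCoh.puncturedOpen A (IsLocalRing.maximalIdeal A)) ≤ ⊤)) i).mapIso eD).addCommGroupIsoToAddEquiv.trans
    Φ.symm).trans (Ψ.toAddEquiv.trans (LinearEquiv.arrowCongr Λ.symm (LinearEquiv.refl A E)).toAddEquiv)⟩

end Groth.Agent.LD6
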