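import Groth.Agent.SerreDual.ExtShDivisor
import Groth.Agent.SerreDual.TwistEquiv
import Groth.Agent.SerreDual.ExtLocFree
import Groth.Agent.Coherent.InternalHomAdj
import Groth.Agent.Coherent.CohBC.TwistBC
import Groth.Agent.HRes16.MapExactNat
import Groth.Agent.DQCoh.Local
import Groth.Agent.PicLib.PicMonoid
import Groth.Agent.AmpleLib.Power

/-!
# `Ext^i(L^∨, ω) ≅ H^i(ω ⊗ L)`, naturally in the invertible `L`
-/

set_option autoImplicit false
set_option backward.isDefEq.respectTransparency.types false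
set_option linter.style.haveILetI false
set_option linter.unusedSectionVars false

universe u

open CategoryTheory CategoryTheory.Abelian CategoryTheory.Limits AlgebraicGeometry Opposite TopologicalSpace
open Groth.Agent.Coherent Groth.Agent.AmpleLib Groth.Agent.PicLib Groth.Agent.SerreDual

namespace Groth.Agent.LD6

theorem square_comp {C : Type (u + 1)} [Category.{u} C] [Abelian C] [HasExt.{u} C] {P A₁ A₂ A' B₁ B₂ : C} {q : ℕ}
    (u₁ : P ⟶ A₁) (u₂ : P ⟶ A₂) (x₁ : Ext A₁ B₁ q) (tA : A₁ ⟶ A') (tB : B₁ ⟶ B₂) (x' : Ext A' B₂ q) (m : A₂ ⟶ A')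
    (hn : x₁.comp (Ext.mk₀ tB) (add_zero q) = (Ext.mk₀ tA).comp x' (zero_add q)) (hu : u₁ ≫ tA = u₂ ≫ m) :
    ((Ext.mk₀ u₁).comp x₁ (zero_add q)).comp (Ext.mk₀ tB) (add_zero q) =
      (Ext.mk₀ u₂).comp ((Ext.mk₀ m).comp x' (zero_add q)) (zero_add q) := by
  rw [Ext.comp_assoc_of_third_deg_zero, hn, Ext.mk₀_comp_mk₀_assoc, Ext.mk₀_comp_mk₀_assoc, hu]

variable {X : Scheme.{u}}

/-- The dual. -/
noncomputable abbrev dualM (L : X.Modules) : X.Modules := internalHom L (Coh.structureModule X)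

/-- `L^∨ ⊗ L ≅ O`. -/
noncomputable def evI {L : X.Modules} (hL : PicF.IsInvertible L) :
    CohB1.tensorMod (dualM L) L ≅ Coh.structureModule X :=
  haveI := SerreDual.isIso_eval hL (Coh.structureModule X)
  AmpleLib.tensorComm (dualM L) L ≪≫ asIso (evalBilin L (Coh.structureModule X)).desc

theorem evI_tmul {L : X.Modules} (hL : PicF.IsInvertible L) (U : X.Opens) (w : Γ(dualM L, U)) (g : Γ(L, U)) :
    (evI hL).hom.app U (tmul w g) = (evalBilin L (Coh.structureModule X)).desc.app U (tmul g w) := by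
  show (evalBilin L (Coh.structureModule X)).desc.app U ((tensorSwap (dualM L) L).app U (tmul w g)) = _
  exact congrArg _ (Bilin.desc_tmul _ U w g)

theorem isInvertible_dualM {L : X.Modules} (hL : PicF.IsInvertible L) : PicF.IsInvertible (dualM L) :=
  PicLib.PicM.isInvertible_of_tensor hL fun y => by
    obtain ⟨U, hy, ⟨e₁⟩⟩ := AmpleLib.isInvertible_structureModule (X := X) y
    exact ⟨U, hy, ⟨(Scheme.Modules.restrictFunctor U.ι).mapIso (AmpleLib.tensorComm L (dualM L) ≪≫ evI hL) ≪≫ e₁⟩⟩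

variable {L₁ L₂ : X.Modules} (a : L₁ ⟶ L₂)

/-- The dual of a map. -/
noncomputable def dualMap : dualM L₂ ⟶ dualM L₁ :=
  (tensorHomAdj L₁).homEquiv _ _
    ((DCoh.tensorBi.map a).app (dualM L₂) ≫ (tensorHomAdj L₂).counit.app (Coh.structureModule X))

theorem sheafHom_dual_eq [DCoh.HasSheafHom L₁] [DCoh.HasSheafHom L₂] :
    (DCoh.sheafHomAdj L₁).homEquiv ((DCoh.sheafHom L₂).obj (Coh.structureModule X)) (Coh.structureModule X)
        ((DCoh.tensorBi.map a).app ((DCoh.sheafHom L₂).obj (Coh.structureModule X)) ≫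
          (DCoh.sheafHomAdj L₂).counit.app (Coh.structureModule X)) ≫
      (sheafHomIso L₁).hom.app (Coh.structureModule X) =
    (sheafHomIso L₂).hom.app (Coh.structureModule X) ≫ dualMap a := by
  apply ((tensorHomAdj L₁).homEquiv _ _).symm.injective
  rw [Adjunction.homEquiv_counit, Functor.map_comp, Category.assoc]
  have h1 := Adjunction.rightAdjointUniq_hom_app_counit (DCoh.sheafHomAdj L₁) (tensorHomAdj L₁) (Coh.structureModule X)
  have h2 := Adjunction.rightAdjointUniq_hom_app_counit (DCoh.sheafHomAdj L₂) (tensorHomAdj L₂) (Coh.structureModule X)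
  refine (congrArg (_ ≫ ·) h1).trans ?_
  refine (((DCoh.sheafHomAdj L₁).homEquiv_counit _ _ _).symm.trans (Equiv.symm_apply_apply _ _)).trans ?_
  refine Eq.trans ?_ ((tensorHomAdj L₁).homEquiv_naturality_left_symm _ _).symm
  refine Eq.trans ?_ (congrArg (_ ≫ ·) (Equiv.symm_apply_apply _ _)).symm
  refine Eq.trans ?_ (Category.assoc _ _ _)
  refine Eq.trans ?_ (congrArg (· ≫ _) ((DCoh.tensorBi.map a).naturality _)).symm
  refine Eq.trans ?_ (Category.assoc _ _ _).symm
  exact congrArg (_ ≫ ·) h2.symm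

theorem eval_dualMap (U : X.Opens) (g : Γ(L₁, U)) (h : Γ(dualM L₂, U)) :
    (evalBilin L₁ (Coh.structureModule X)).desc.app U (tmul g ((dualMap a).app U h)) =
      (evalBilin L₂ (Coh.structureModule X)).desc.app U (tmul (a.app U g) h) := by
  have e : (tensE L₁).map (dualMap a) ≫ (evalBilin L₁ (Coh.structureModule X)).desc =
      (DCoh.tensorBi.map a).app (dualM L₂) ≫ (evalBilin L₂ (Coh.structureModule X)).desc := by
    have h' := ((tensorHomAdj L₁).homEquiv_counit _ _ (dualMap a)).symm.trans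
      (((tensorHomAdj L₁).homEquiv _ _).symm_apply_apply
        ((DCoh.tensorBi.map a).app (dualM L₂) ≫ (tensorHomAdj L₂).counit.app (Coh.structureModule X)))
    have hc : ∀ L : X.Modules, (tensorHomAdj L).counit.app (Coh.structureModule X) =
        (evalBilin L (Coh.structureModule X)).desc := fun L => by
      rw [tensorHomAdj, Adjunction.mkOfHomEquiv_counit_app]; rfl
    rw [hc, hc] at h'
    exact h'
  rw [CohBC.tensorBi_map_eq_tensorMap] at e
  have e' := congrArg (fun φ => φ.app U (tmul g h)) e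
  simp only [Scheme.Modules.Hom.comp_app] at e'
  change (evalBilin L₁ _).desc.app U ((tE L₁ (dualMap a)).app U (tmul g h)) =
    (evalBilin L₂ _).desc.app U ((tensorMap a (𝟙 _)).app U (tmul g h)) at e'
  rw [tensE_map_tmul, tensorMap_tmul] at e'
  exact e'

/-- The twists, naturally. -/
noncomputable def twistNat : twistF L₁ ⟶ twistF L₂ where
  app M := tensorMap (𝟙 M) a
  naturality M N φ := AmpleLib.hom_ext fun U m l => by
    show (tensorMap (𝟙 N) a).app U ((tensorMap φ (𝟙 L₁)).app U (tmul m l)) =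
      (tensorMap φ (𝟙 L₂)).app U ((tensorMap (𝟙 M) a).app U (tmul m l))
    rw [tensorMap_tmul, tensorMap_tmul, tensorMap_tmul, tensorMap_tmul]
    rfl

theorem coev_comp (h₁ : PicF.IsInvertible L₁) (h₂ : PicF.IsInvertible L₂) :
    (evI h₁).inv ≫ tensorMap (𝟙 (dualM L₁)) a = (evI h₂).inv ≫ tensorMap (dualMap a) (𝟙 L₂) := by
  refine Scheme.Modules.hom_ext _ _ fun U => ConcreteCategory.hom_ext _ _ fun z => ?_
  show (tensorMap (𝟙 (dualM L₁)) a).app U ((evI h₁).inv.app U z) =
    (tensorMap (dualMap a) (𝟙 L₂)).app U ((evI h₂).inv.app U z)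
  refine sec_ext _ _ _ fun y hy => ?_
  obtain ⟨U₁, hy₁, g₁', hg₁'⟩ := exists_isGen h₁ y
  obtain ⟨U₂, hy₂, g₂', hg₂'⟩ := exists_isGen h₂ y
  let V : X.Opens := U ⊓ (U₁ ⊓ U₂)
  have hV₁ : V ≤ U₁ := inf_le_right.trans inf_le_left
  have hV₂ : V ≤ U₂ := inf_le_right.trans inf_le_right
  refine ⟨V, inf_le_left, ⟨hy, hy₁, hy₂⟩, ?_⟩
  rw [← app_resM, ← app_resM, ← app_resM, ← app_resM]
  let g₁ := resM L₁ hV₁ g₁'
  let g₂ := resM L₂ hV₂ g₂'
  have hg₂ : IsGen L₂ V g₂ := hg₂'.restrict hV₂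
  have hb₁ : Function.Bijective fun m : Γ(dualM L₁, V) => (tmul m g₁ : Γ(CohB1.tensorMod (dualM L₁) L₁, V)) := by
    have := bijective_tmul_gen (M := dualM L₁) hg₁' V hV₁
    exact this
  have hb₂ : Function.Bijective fun m : Γ(dualM L₂, V) => (tmul m g₂ : Γ(CohB1.tensorMod (dualM L₂) L₂, V)) :=
    bijective_tmul_gen (M := dualM L₂) hg₂' V hV₂
  obtain ⟨c₁, hc₁⟩ := hb₁.2 ((evI h₁).inv.app V (resM _ inf_le_left z))
  obtain ⟨c₂, hc₂⟩ := hb₂.2 ((evI h₂).inv.app V (resM _ inf_le_left z))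
  beta_reduce at hc₁ hc₂
  rw [← hc₁, ← hc₂, tensorMap_tmul, tensorMap_tmul]
  have hi : ∀ {L : X.Modules} (h : PicF.IsInvertible L) (w : Γ(Coh.structureModule X, V)),
      (evI h).hom.app V ((evI h).inv.app V w) = w := fun h w =>
    congrArg (fun φ : Coh.structureModule X ⟶ Coh.structureModule X => φ.app V w) (evI h).inv_hom_id
  obtain ⟨r, hr⟩ := (hg₂ V le_rfl).2 (a.app V g₁)
  beta_reduce at hr
  rw [PicLib.resM_self] at hr
  have key : (dualMap a).app V c₂ = r • c₁ := by
    refine hb₁.1 ((ConcreteCategory.bijective_of_isIso ((evI h₁).hom.app V)).1 ?_)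
    show (evI h₁).hom.app V (tmul ((dualMap a).app V c₂) g₁) = (evI h₁).hom.app V (tmul (r • c₁) g₁)
    rw [evI_tmul, eval_dualMap, ← hr, tmul_smul_left, Scheme.Modules.Hom.app_smul, ← evI_tmul h₂,
      tmul_smul_left, Scheme.Modules.Hom.app_smul, hc₁, hc₂, hi h₁, hi h₂]
  show tmul c₁ (a.app V g₁) = tmul ((dualMap a).app V c₂) g₂
  rw [key, ← hr, tmul_smul_right, tmul_smul_left]

variable [HasExt.{u} X.Modules]

/-- Injectivity on cohomology of twists as injectivity on maps out of the duals. -/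
theorem injective_twist_iff (h₁ : PicF.IsInvertible L₁) (h₂ : PicF.IsInvertible L₂) (ω : X.Modules) (i : ℕ) :
    Function.Injective (Sheaf.H.map ((SheafOfModules.toSheaf X.ringCatSheaf).map ((DCoh.tensorBi.obj ω).map a)) i) ↔
      Function.Injective fun x : Ext (dualM L₁) ω i => (Ext.mk₀ (dualMap a)).comp x (zero_add i) := by
  haveI : EnoughInjectives X.Modules :=
    haveI : IsGrothendieckAbelian.{u} X.Modules := DCat.schemeModules_isGrothendieckAbelian X
    inferInstance
  haveI := SerreDual.isEquivalence_twistF (isInvertible_dualM h₁) h₁ (evI h₁)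
  haveI := SerreDual.isEquivalence_twistF (isInvertible_dualM h₂) h₂ (evI h₂)
  haveI : (twistF L₁).PreservesInjectiveObjects := inferInstance
  haveI : (twistF L₂).PreservesInjectiveObjects := inferInstance
  have hu : ∀ {L : X.Modules} (h : PicF.IsInvertible L) (B : X.Modules) (q : ℕ), Function.Bijective
      fun x : Ext (CohB1.tensorMod (dualM L) L) B q =>
        (Ext.mk₀ ((DQCoh.topStructIso X).hom ≫ (evI h).inv)).comp x (zero_add q) := fun {L} h B q =>
    let e := DQCoh.topStructIso X ≪≫ (evI h).symm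
    Function.bijective_iff_has_inverse.2
      ⟨fun x => (Ext.mk₀ e.inv).comp x (zero_add q),
        fun x => by
          show (Ext.mk₀ e.inv).comp ((Ext.mk₀ e.hom).comp x (zero_add q)) (zero_add q) = x
          rw [Ext.mk₀_comp_mk₀_assoc, e.inv_hom_id, Ext.mk₀_id_comp],
        fun x => by
          show (Ext.mk₀ e.hom).comp ((Ext.mk₀ e.inv).comp x (zero_add q)) (zero_add q) = x
          rw [Ext.mk₀_comp_mk₀_assoc, e.hom_inv_id, Ext.mk₀_id_comp]⟩
  let T₁ : Ext (dualM L₁) ω i → Coh.HH X (CohB1.tensorMod ω L₁) i := fun x =>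
    SerreDual.extHH _ i ((Ext.mk₀ ((DQCoh.topStructIso X).hom ≫ (evI h₁).inv)).comp
      (x.mapExactFunctor (twistF L₁)) (zero_add i))
  let T₂ : Ext (dualM L₂) ω i → Coh.HH X (CohB1.tensorMod ω L₂) i := fun x =>
    SerreDual.extHH _ i ((Ext.mk₀ ((DQCoh.topStructIso X).hom ≫ (evI h₂).inv)).comp
      (x.mapExactFunctor (twistF L₂)) (zero_add i))
  have b₁ : Function.Bijective T₁ := (SerreDual.extHH _ i).bijective.comp ((hu h₁ _ i).comp
    ((twistF L₁).mapExt_bijective_of_preservesInjectiveObjects _ _ i))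
  have b₂ : Function.Bijective T₂ := (SerreDual.extHH _ i).bijective.comp ((hu h₂ _ i).comp
    ((twistF L₂).mapExt_bijective_of_preservesInjectiveObjects _ _ i))
  have hω : ((DCoh.tensorBi.obj ω).map a) = tensorMap (𝟙 ω) a := AmpleLib.hom_ext fun U x y => by
    exact (tensE_map_tmul ω a U x y).trans (tensorMap_tmul (𝟙 ω) a x y).symm
  have comm : (Sheaf.H.map ((SheafOfModules.toSheaf X.ringCatSheaf).map ((DCoh.tensorBi.obj ω).map a)) i) ∘ T₁ =
      T₂ ∘ fun x : Ext (dualM L₁) ω i => (Ext.mk₀ (dualMap a)).comp x (zero_add i) := funext fun x => by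
    have hn := HRes16.mapExactFunctor_natTrans (twistF L₁) (twistF L₂) (twistNat a) x
    show Sheaf.H.map ((SheafOfModules.toSheaf X.ringCatSheaf).map ((DCoh.tensorBi.obj ω).map a)) i
      (SerreDual.extHH _ i _) = SerreDual.extHH _ i _
    refine (congrArg (fun φ : CohB1.tensorMod ω L₁ ⟶ CohB1.tensorMod ω L₂ =>
      Sheaf.H.map ((SheafOfModules.toSheaf X.ringCatSheaf).map φ) i (SerreDual.extHH _ i _)) hω).trans ?_
    rw [← SerreDual.extHH_natural]
    congr 1
    rw [Ext.mapExactFunctor_comp, Ext.mapExactFunctor_mk₀]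
    exact square_comp _ _ _ _ _ _ _ hn
      ((Category.assoc _ _ _).trans ((congrArg (_ ≫ ·) (coev_comp a h₁ h₂)).trans (Category.assoc _ _ _).symm))
  constructor
  · intro h
    exact Function.Injective.of_comp (f := T₂) (comm ▸ h.comp b₁.1)
  · intro h
    exact Function.Injective.of_comp_right (g := T₁) (comm ▸ b₂.1.comp h) b₁.2

end Groth.Agent.LD6
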