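import Groth.Agent.LD6.Dual2
import Groth.Agent.LD6.TwistNat
import Groth.Agent.LD6.BridgeNat

/-!
# Injectivity for twists of the dualizing sheaf against surjectivity on cohomology with supports
-/

set_option autoImplicit false
set_option backward.isDefEq.respectTransparency false
set_option linter.style.haveILetI false
set_option linter.unusedSectionVars false
set_option synthInstance.maxHeartbeats 200000
set_option maxHeartbeats 1000000

universe u

open CategoryTheory CategoryTheory.Limits AlgebraicGeometry Opposite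
open Groth.Agent.Dual22Lib Groth.Agent.DualLib Groth.Agent.Coherent

attribute [local instance] HasDerivedCategory.standard

namespace Groth.Agent.LD6

theorem injective_congr {A B A' B' : Sort*} {f : A → B} {g : A' → B'} (a : A → A') (b : B → B')
    (ha : Function.Bijective a) (hb : Function.Bijective b) (h : ∀ x, g (a x) = b (f x)) :
    Function.Injective f ↔ Function.Injective g :=
  ⟨fun hf => Function.Injective.of_comp_right (g := a) ((funext h : g ∘ a = b ∘ f) ▸ hb.1.comp hf) ha.2,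
    fun hg => Function.Injective.of_comp (f := b) ((funext h : g ∘ a = b ∘ f) ▸ hg.comp ha.1)⟩

variable {A : Type u} [CommRing A] [IsNoetherianRing A] [IsLocalRing A]
  [PreservesFiniteLimits (tilde.functor (CommRingCat.of A))]
  {X : Scheme.{u}} [X.Over (Spec (CommRingCat.of A))] [IsProper (X ↘ Spec (CommRingCat.of A))]
  [DCoh.HasRpush (X ↘ Spec (CommRingCat.of A))]

theorem injective_twist_iff_surjective_HZM (ωR : Dual.D A) (hω : Dual.IsDualizing A ωR)
    (W : DCoh.DQCoh (Spec (CommRingCat.of A)))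
    (hW : Nonempty (W.obj ≅ (DCoh.tildeD (CommRingCat.of A)).obj ωR))
    (h : DCoh.RpushPreservesQCoh (X ↘ Spec (CommRingCat.of A)))
    (a : DCoh.DQCoh (Spec (CommRingCat.of A)) ⥤ DCoh.DQCoh X)
    (adj : DCoh.RpushQ (X ↘ Spec (CommRingCat.of A)) h ⊣ a)
    (d : ℤ) (hconc : ∀ j : ℤ, j ≠ d → IsZero (DCoh.HD (a.obj W).obj j))
    (n : ℕ) (hdim : topologicalKrullDim X = (n : WithBot ℕ∞))
    (L₁ L₂ : X.Modules) (hL₁ : PicF.IsInvertible L₁) (hL₂ : PicF.IsInvertible L₂)
    [DCoh.HasSheafHom L₁] [DCoh.HasSheafHom L₂] (α : L₁ ⟶ L₂) (i j : ℕ) (hij : i + j = n) :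
    Function.Injective (Sheaf.H.map ((SheafOfModules.toSheaf X.ringCatSheaf).map
        ((DCoh.tensorBi.obj (DCoh.HD (a.obj W).obj d)).map α)) i) ↔
      Function.Surjective (LocCohZ.map (X := X.carrier) ((SheafOfModules.toSheaf X.ringCatSheaf).map
        ((DCoh.sheafHomAdj L₁).homEquiv ((DCoh.sheafHom L₂).obj (Coh.structureModule X)) (Coh.structureModule X)
          ((DCoh.tensorBi.map α).app ((DCoh.sheafHom L₂).obj (Coh.structureModule X)) ≫
            (DCoh.sheafHomAdj L₂).counit.app (Coh.structureModule X)))) j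
        (le_top : ((X ↘ Spec (CommRingCat.of A)) ⁻¹ᵁ LocCoh.puncturedOpen A (IsLocalRing.maximalIdeal A)) ≤ ⊤)) := by
  let f := X ↘ Spec (CommRingCat.of A)
  let T := DCoh.tildeD (CommRingCat.of A)
  let O := Coh.structureModule X
  let N := DCoh.HD (a.obj W).obj d
  haveI : HasExt.{u} X.Modules := Coherent.hasExtMod X
  obtain ⟨s, hωs, hs, hd, hiso⟩ := exists_degree_iso ωR hω W hW h a adj d hconc n hdim
  obtain ⟨⟨eω⟩, ⟨wI⟩⟩ := hiso (i : ℤ)
  obtain ⟨K₁, hK₁, ⟨e₁⟩⟩ := exists_model (A := A) (X := X) (PicLib.isCoh_of_isInvertible (isInvertible_dualM hL₁))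
  obtain ⟨K₂, hK₂, ⟨e₂⟩⟩ := exists_model (A := A) (X := X) (PicLib.isCoh_of_isInvertible (isInvertible_dualM hL₂))
  obtain ⟨hfull, hfaith, -⟩ := DQCoh.tildeD_main (CommRingCat.of A)
  haveI := hfull
  haveI := hfaith
  let Sa := (DerivedCategory.singleFunctor X.Modules 0).map (dualMap α)
  obtain ⟨φ, hφ₀⟩ := T.map_surjective (e₂.hom ≫ (DCoh.Rpush f).map Sa ≫ e₁.inv)
  have hφ : T.map φ ≫ e₁.hom = e₂.hom ≫ (DCoh.Rpush f).map Sa := by
    rw [hφ₀, Category.assoc, Category.assoc, Iso.inv_hom_id]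
    erw [Category.comp_id]
  obtain ⟨E₀, _, _, f₀, hf₀⟩ := Matlis6.exists_isInjectiveHull A (IsLocalRing.ResidueField A)
  -- the side with supports
  let U := f ⁻¹ᵁ LocCoh.puncturedOpen A (IsLocalRing.maximalIdeal A)
  let F := Abelian.extFunctorObj (LocCohZ.zq (X := X.carrier) (le_top : U ≤ ⊤)) j
  let θ₁ := (toAbFunctor X).mapIso ((sheafHomIso L₁).app O)
  let θ₂ := (toAbFunctor X).mapIso ((sheafHomIso L₂).app O)
  let g := (DCoh.sheafHomAdj L₁).homEquiv ((DCoh.sheafHom L₂).obj O) O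
    ((DCoh.tensorBi.map α).app ((DCoh.sheafHom L₂).obj O) ≫ (DCoh.sheafHomAdj L₂).counit.app O)
  have hg : (toAbFunctor X).map g ≫ θ₁.hom = θ₂.hom ≫ (toAbFunctor X).map (dualMap α) := by
    simp only [θ₁, θ₂, Functor.mapIso_hom, ← Functor.map_comp]
    exact congrArg (toAbFunctor X).map (sheafHom_dual_eq α)
  have hR : Function.Surjective (LocCohZ.map (X := X.carrier) ((toAbFunctor X).map g) j (le_top : U ≤ ⊤)) ↔
      Function.Surjective (LocCohZ.map (X := X.carrier) ((toAbFunctor X).map (dualMap α)) j (le_top : U ≤ ⊤)) :=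
    surjective_congr (F.map θ₂.hom).hom (F.map θ₁.hom).hom (ConcreteCategory.bijective_of_isIso (F.map θ₂.hom))
      (ConcreteCategory.bijective_of_isIso (F.map θ₁.hom)) fun x => by
        show (F.map θ₂.hom ≫ F.map ((toAbFunctor X).map (dualMap α))).hom x =
          (F.map ((toAbFunctor X).map g) ≫ F.map θ₁.hom).hom x
        rw [← Functor.map_comp, ← Functor.map_comp]
        exact congrArg (fun q => (F.map q).hom x) hg.symm
  refine Iff.trans ?_ hR.symm
  rw [surjective_map_iff_hdiMap (IsLocalRing.maximalIdeal A) (dualMap α) e₂ e₁ φ hφ j,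
    DN.surjective_hdiMap_iff hωs hs hf₀ hK₂ hK₁ φ (j : ℤ), injective_twist_iff α hL₁ hL₂ N i]
  let k : ℤ := d + (i : ℤ)
  let q₁ : DCoh.DQCoh X := ⟨DCoh.inD X (dualM L₁),
    @FlatBC14.isQCohD_inD X _ (PicLib.isCoh_of_isInvertible (isInvertible_dualM hL₁)).1⟩
  let q₂ : DCoh.DQCoh X := ⟨DCoh.inD X (dualM L₂),
    @FlatBC14.isQCohD_inD X _ (PicLib.isCoh_of_isInvertible (isInvertible_dualM hL₂)).1⟩
  let Ω := (ωR⟦s⟧)⟦-(j : ℤ)⟧
  have hcounit : ∀ q : DCoh.DQCoh X, Function.Bijective fun z : q.obj ⟶ (a.obj (W⟦k⟧)).obj =>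
      (DCoh.Rpush f).map z ≫ (adj.counit.app (W⟦k⟧)).hom := fun q => by
    have hb := (((ObjectProperty.fullyFaithfulι _).homEquiv (X := q) (Y := a.obj (W⟦k⟧))).symm.trans
      ((adj.homEquiv q (W⟦k⟧)).symm.trans (ObjectProperty.fullyFaithfulι _).homEquiv)).bijective
    convert hb using 1
    funext z
    simp [Adjunction.homEquiv_counit]
    rfl
  let sh : T.obj (ωR⟦k⟧) ≅ T.obj Ω :=
    T.mapIso ((shiftFunctorAdd' (Dual.D A) s (-(j : ℤ)) k (by omega)).app ωR)
  rw [injective_congr (g := fun z : q₁.obj ⟶ ((DerivedCategory.singleFunctor X.Modules 0).obj N)⟦(i : ℤ)⟧ => Sa ≫ z)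
      (fun x => x.hom) (fun x => x.hom) Abelian.Ext.homEquiv.bijective Abelian.Ext.homEquiv.bijective
      (fun x => by
        show Sa ≫ x.hom = ((Abelian.Ext.mk₀ (dualMap α)).comp x (zero_add i)).hom
        rw [Abelian.Ext.comp_hom, Abelian.Ext.mk₀_hom, ShiftedHom.mk₀_comp]),
    injective_congr (g := fun z : q₁.obj ⟶ (a.obj (W⟦k⟧)).obj => Sa ≫ z)
      (fun z => z ≫ eω.hom) (fun z => z ≫ eω.hom) eω.homToEquiv.bijective eω.homToEquiv.bijective
      (fun z => (Category.assoc _ _ _).symm),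
    injective_congr (g := fun z : (DCoh.Rpush f).obj q₁.obj ⟶ (W⟦k⟧).obj => (DCoh.Rpush f).map Sa ≫ z)
      (fun z => (DCoh.Rpush f).map z ≫ (adj.counit.app (W⟦k⟧)).hom)
      (fun z => (DCoh.Rpush f).map z ≫ (adj.counit.app (W⟦k⟧)).hom) (hcounit q₁) (hcounit q₂)
      (fun z => by simp only [Functor.map_comp, Category.assoc]),
    injective_congr (g := fun z : T.obj K₁ ⟶ T.obj Ω => T.map φ ≫ z)
      (fun z => e₁.hom ≫ z ≫ (wI ≪≫ sh).hom) (fun z => e₂.hom ≫ z ≫ (wI ≪≫ sh).hom)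
      ((Iso.homCongr e₁.symm (wI ≪≫ sh)).bijective) ((Iso.homCongr e₂.symm (wI ≪≫ sh)).bijective)
      (fun z => by rw [reassoc_of% hφ]; simp only [Category.assoc])]
  exact (injective_congr (f := fun z : K₁ ⟶ Ω => φ ≫ z) (fun z => T.map z) (fun z => T.map z)
    ((Functor.FullyFaithful.ofFullyFaithful T).map_bijective _ _)
    ((Functor.FullyFaithful.ofFullyFaithful T).map_bijective _ _) fun z => (T.map_comp φ z).symm).symm

end Groth.Agent.LD6
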