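import Groth.Agent.S13535
import Groth.Agent.Coherent.InternalHom
import Groth.Agent.Coherent.CohBC.HomSheaf
import Groth.Agent.Coherent.CohBC.PushStructure
import Groth.Agent.Coherent.Existence.HomAffine
import Groth.Agent.Coherent.FinitePres
import Groth.Agent.RelVALib.DirImgFull
import Groth.Agent.MorProj.FinFree

/-!
# The right adjoint of the direct image by a finite morphism on a tensor product
-/

set_option autoImplicit false
set_option linter.style.haveILetI false
set_option backward.isDefEq.respectTransparency.types false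

universe u

open CategoryTheory CategoryTheory.Limits AlgebraicGeometry Opposite TopologicalSpace
open Groth.Agent.Coherent Groth.Agent.PicLib Groth.Agent.AmpleLib

namespace Groth.Agent.LD6.FinShriek

variable {X Z : Scheme.{u}} (π : X ⟶ Z)

/-- The direct image of the structure sheaf. -/
noncomputable abbrev P : Z.Modules := (Scheme.Modules.pushforward π).obj (Coh.structureModule X)

/-- A section of the direct image of `O` as a function. -/
abbrev fn {U : Z.Opens} (p : Γ(P π, U)) : Γ(X, π ⁻¹ᵁ U) := p

variable {π} {ω : X.Modules} {E : Z.Modules} (τ : (Scheme.Modules.pushforward π).obj ω ⟶ E)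

/-- `(p, n) ↦ τ (p n)`. -/
noncomputable def thetaBilin : Bilin (P π) ((Scheme.Modules.pushforward π).obj ω) E where
  app U p n := τ.app U (show Γ((Scheme.Modules.pushforward π).obj ω, U) from
    fn π p • (show Γ(ω, π ⁻¹ᵁ U) from n))
  add_left U p p' n := by
    rw [← map_add]
    exact congrArg (τ.app U).hom (add_smul (fn π p) (fn π p') (show Γ(ω, π ⁻¹ᵁ U) from n))
  add_right U p n n' := by
    rw [← map_add]
    exact congrArg (τ.app U).hom (smul_add (fn π p) (show Γ(ω, π ⁻¹ᵁ U) from n) _)
  smul_left U r p n := by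
    rw [← Scheme.Modules.Hom.app_smul]
    exact congrArg (τ.app U).hom (mul_smul (π.app U r) (fn π p) (show Γ(ω, π ⁻¹ᵁ U) from n))
  smul_right U r p n := by
    rw [← Scheme.Modules.Hom.app_smul]
    exact congrArg (τ.app U).hom (smul_comm (fn π p) (π.app U r) (show Γ(ω, π ⁻¹ᵁ U) from n))
  res U V h p n := by
    rw [← app_resM]
    exact congrArg (τ.app V).hom
      (resM_smul ω ((Opens.map π.base).map (homOfLE h)).le (fn π p) (show Γ(ω, π ⁻¹ᵁ U) from n))

/-- The comparison `π_* ω → Hom(π_* O, E)`. -/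
noncomputable def theta : (Scheme.Modules.pushforward π).obj ω ⟶ internalHom (P π) E :=
  curry (thetaBilin τ)

theorem ev_theta {U : Z.Opens} (n : Γ((Scheme.Modules.pushforward π).obj ω, U)) (W : Z.Opens)
    (hW : W ≤ U) (p : Γ(P π, W)) :
    ev (secHom ((theta τ).app U n)) W hW p = (thetaBilin τ).app W p (resM _ hW n) := rfl

variable [IsAffineHom π]

/-- The comparison is an isomorphism for the universal `ω`. -/
theorem isIso_theta [Coh.IsQCoh ω] [Coh.IsQCoh (internalHom (P π) E)]
    [Coh.IsQCoh (Coh.structureModule X)]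
    (huniv : ∀ F : X.Modules, Coh.IsQCoh F →
      Function.Bijective (fun φ : F ⟶ ω => (Scheme.Modules.pushforward π).map φ ≫ τ)) :
    IsIso (theta τ) := by
  let adj := Scheme.Modules.pullbackPushforwardAdjunction π
  let push := Scheme.Modules.pushforward π
  suffices h : ∀ G : Z.Modules, Coh.IsQCoh G →
      Function.Bijective (fun g : G ⟶ push.obj ω => g ≫ theta τ) by
    haveI : Coh.IsQCoh (push.obj ω) := Coherent.isQCoh_push π ω
    obtain ⟨g, hg⟩ := (h (internalHom (P π) E) inferInstance).2 (𝟙 _)
    have hg' : g ≫ theta τ = 𝟙 _ := hg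
    refine ⟨g, (h (push.obj ω) inferInstance).1 ?_, hg'⟩
    show (theta τ ≫ g) ≫ theta τ = 𝟙 _ ≫ theta τ
    rw [Category.assoc, hg', Category.comp_id, Category.id_comp]
  intro G hG
  haveI := hG
  haveI := S13535.isIso_projHom_affine π G (Coh.structureModule X)
  let pb := (Scheme.Modules.pullback π).obj G
  let R : CohB1.tensorMod pb (Coh.structureModule X) ≅ pb :=
    AmpleLib.tensorComm _ _ ≪≫ unitTensorIso pb
  let u : CohB1.tensorMod G (P π) ⟶ push.obj pb :=
    projHom π G (Coh.structureModule X) ≫ push.map R.hom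
  haveI : IsIso u := IsIso.comp_isIso
  have hu : ∀ (U : Z.Opens) (a : Γ(G, U)) (p : Γ(P π, U)),
      (u.app U (tmul a p) : Γ(pb, π ⁻¹ᵁ U)) = fn π p • pullSec π a := fun U a p => by
    show R.hom.app (π ⁻¹ᵁ U) ((projHom π G (Coh.structureModule X)).app U (tmul a p)) = _
    rw [projHom_tmul]
    show (unitBilin pb).desc.app (π ⁻¹ᵁ U) ((tensorSwap _ _).app (π ⁻¹ᵁ U)
      (tmul (pullSec π a) (show Γ(Coh.structureModule X, π ⁻¹ᵁ U) from p))) = _
    rw [show (tensorSwap pb (Coh.structureModule X)).app (π ⁻¹ᵁ U)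
      (tmul (pullSec π a) (show Γ(Coh.structureModule X, π ⁻¹ᵁ U) from p)) =
      tmul (show Γ(Coh.structureModule X, π ⁻¹ᵁ U) from p) (pullSec π a) from Bilin.desc_tmul _ _ _ _,
      Bilin.desc_tmul]
    rfl
  let Ψ : (G ⟶ push.obj ω) → (CohB1.tensorMod G (P π) ⟶ E) := fun g =>
    u ≫ push.map ((adj.homEquiv G ω).symm g) ≫ τ
  have hΨ : ∀ (g : G ⟶ push.obj ω) (U : Z.Opens) (a : Γ(G, U)) (p : Γ(P π, U)),
      (Ψ g).app U (tmul a p) = (thetaBilin τ).app U p (g.app U a) := fun g U a p => by
    show τ.app U (((adj.homEquiv G ω).symm g).app (π ⁻¹ᵁ U) (u.app U (tmul a p))) = _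
    rw [hu, Scheme.Modules.Hom.app_smul, homEquiv_symm_app_pullSec]
    rfl
  have hpb : Coh.IsQCoh pb := EGA43.InjFibre.isQCoh_pullback π G
  have hbij : Function.Bijective Ψ := by
    refine Function.Bijective.comp (g := fun φ => u ≫ φ) ⟨fun a b e => ?_, fun b => ⟨inv u ≫ b, ?_⟩⟩
      ((huniv pb hpb).comp (adj.homEquiv G ω).symm.bijective)
    · exact (cancel_epi u).1 e
    · exact IsIso.hom_inv_id_assoc u b
  constructor
  · intro g g' e
    refine hbij.1 (AmpleLib.hom_ext fun U a p => ?_)
    rw [hΨ, hΨ]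
    have e' : (theta τ).app U (g.app U a) = (theta τ).app U (g'.app U a) :=
      ConcreteCategory.congr_hom (congrArg (fun φ => Scheme.Modules.Hom.app φ U) e) a
    have e'' := congrArg (fun z => ev (secHom z) U le_rfl p) e'
    simp only [ev_theta, PicLib.resM_self] at e''
    exact e''
  · intro h
    let b : Bilin G (P π) E :=
      { app := fun U a p => (uncurry h).app U p a
        add_left := fun U a a' p => (uncurry h).add_right U p a a'
        add_right := fun U a p p' => (uncurry h).add_left U p p' a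
        smul_left := fun U r a p => (uncurry h).smul_right U r p a
        smul_right := fun U r a p => (uncurry h).smul_left U r p a
        res := fun U V hle a p => (uncurry h).res U V hle p a }
    obtain ⟨g, hg⟩ := hbij.2 b.desc
    refine ⟨g, Scheme.Modules.hom_ext _ _ fun U => ConcreteCategory.hom_ext _ _ fun a =>
      locHom_ext (φ := secHom _) (ψ := secHom (h.app U a)) fun W hW p => ?_⟩
    show ev (secHom ((theta τ).app U (g.app U a))) W hW p = ev (secHom (h.app U a)) W hW p
    rw [ev_theta, ← app_resM, ← hΨ, hg, Bilin.desc_tmul]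
    show ev (secHom (h.app W (resM G hW a))) W le_rfl p = _
    rw [app_resM, resM_internalHom]

section TensorHom

variable {Z : Scheme.{u}} (E P : Z.Modules)

/-- `(a, ξ) ↦ ξ(-) a`. -/
noncomputable def homBilin : Bilin E (internalHom P (Coh.structureModule Z)) (internalHom P E) where
  app U a ξ := (show locHom P E U from
    ⟨fun W hW => AddMonoidHom.mk'
        (fun p => (show Γ(Z, W) from ev (secHom ξ) W hW p) • resM E hW a)
        (fun p p' => by
          show (show Γ(Z, W) from (secHom ξ).1 W hW (p + p')) • _ = _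
          rw [map_add]
          exact add_smul (show Γ(Z, W) from ev (secHom ξ) W hW p) (show Γ(Z, W) from ev (secHom ξ) W hW p') _),
      fun W hW r p => by
        show (show Γ(Z, W) from ev (secHom ξ) W hW (r • p)) • resM E hW a =
          r • ((show Γ(Z, W) from ev (secHom ξ) W hW p) • resM E hW a)
        rw [ev_smul_arg]
        exact mul_smul r (show Γ(Z, W) from ev (secHom ξ) W hW p) _,
      fun W W' hW h p => by
        show resM E h ((show Γ(Z, W) from ev (secHom ξ) W hW p) • resM E hW a) = _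
        rw [resM_smul, resM_resM]
        refine congrArg (fun c : Γ(Z, W') => c • resM E (h.trans hW) a) ?_
        exact ev_res (secHom ξ) hW h p⟩)
  add_left U a a' ξ := locHom_ext fun W hW p => by
    show (show Γ(Z, W) from ev (secHom ξ) W hW p) • resM E hW (a + a') = _
    rw [map_add, smul_add]
    rfl
  add_right U a ξ ξ' := locHom_ext fun W hW p => by
    show ((show Γ(Z, W) from ev (secHom ξ) W hW p) + (show Γ(Z, W) from ev (secHom ξ') W hW p)) • resM E hW a = _
    rw [add_smul]
    rfl
  smul_left U r a ξ := locHom_ext fun W hW p => by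
    show (show Γ(Z, W) from ev (secHom ξ) W hW p) • resM E hW (r • a) =
      (Z.presheaf.map (homOfLE hW).op r : Γ(Z, W)) • ((show Γ(Z, W) from ev (secHom ξ) W hW p) • resM E hW a)
    rw [resM_smul, smul_comm]
  smul_right U r a ξ := locHom_ext fun W hW p => by
    show ((Z.presheaf.map (homOfLE hW).op r : Γ(Z, W)) * (show Γ(Z, W) from ev (secHom ξ) W hW p)) • resM E hW a =
      (Z.presheaf.map (homOfLE hW).op r : Γ(Z, W)) • ((show Γ(Z, W) from ev (secHom ξ) W hW p) • resM E hW a)
    rw [mul_smul]
  res U V h a ξ := locHom_ext fun W hW p => by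
    show (show Γ(Z, W) from ev (secHom ξ) W _ p) • resM E _ a =
      (show Γ(Z, W) from ev (secHom (resM (internalHom P (Coh.structureModule Z)) h ξ)) W hW p) •
        resM E hW (resM E h a)
    rw [resM_resM, resM_internalHom]

/-- `E ⊗ Hom(P, O) → Hom(P, E)`. -/
noncomputable def tensHom :
    CohB1.tensorMod E (internalHom P (Coh.structureModule Z)) ⟶ internalHom P E :=
  (homBilin E P).desc

variable {E P}

theorem ev_tensHom {U : Z.Opens} (a : Γ(E, U)) (ξ : Γ(internalHom P (Coh.structureModule Z), U))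
    (W : Z.Opens) (hW : W ≤ U) (p : Γ(P, W)) :
    ev (secHom ((tensHom E P).app U (tmul a ξ))) W hW p =
      (show Γ(Z, W) from ev (secHom ξ) W hW p) • resM E hW a := by
  rw [show (tensHom E P).app U (tmul a ξ) = (homBilin E P).app U a ξ from Bilin.desc_tmul _ U a ξ]
  rfl

theorem ev_tensHom_sum {U : Z.Opens} {I : Type u} [Fintype I] (a : I → Γ(E, U))
    (ξ : I → Γ(internalHom P (Coh.structureModule Z), U))
    (W : Z.Opens) (hW : W ≤ U) (p : Γ(P, W)) :
    ev (secHom ((tensHom E P).app U (∑ i, tmul (a i) (ξ i)))) W hW p =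
      ∑ i, (show Γ(Z, W) from ev (secHom (ξ i)) W hW p) • resM E hW (a i) := by
  let g : Γ(internalHom P E, U) →+ Γ(E, W) :=
    { toFun := fun φ => ev (secHom φ) W hW p
      map_zero' := rfl
      map_add' := fun _ _ => rfl }
  show g ((tensHom E P).app U (∑ i, tmul (a i) (ξ i))) = _
  rw [map_sum, map_sum]
  exact Finset.sum_congr rfl fun i _ => ev_tensHom (a i) (ξ i) W hW p

/-- The comparison is bijective for a free source of `Hom`. -/
theorem isIso_tensHom_of_source (hP : FlatMod.IsFinLocFree P) : IsIso (tensHom E P) := by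
  classical
  refine TwistLib.G.isIso_of_bijective_on_basis _
    (fun B => ∃ (n : ℕ) (e : ULift.{u} (Fin n) → Γ(P, B)), IsBasisOn P B e) (fun V y hy => ?_) ?_
  · obtain ⟨U, n, e, hyU, hUV, he⟩ := exists_basis_nhd hP y V hy
    exact ⟨U, ⟨n, e, he⟩, hyU, hUV⟩
  rintro B ⟨n, e, he⟩
  let D := internalHom P (Coh.structureModule Z)
  have hS := bijective_sum_tmul (isBasisOn_coordHom he) E B le_rfl
  haveI : IsIso (Scheme.Modules.Hom.app (tensorSwap D E) B) :=
    inferInstanceAs (IsIso (Scheme.Modules.Hom.app (AmpleLib.tensorComm D E).hom B))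
  have hc : Function.Bijective ((tensorSwap D E).app B) := ConcreteCategory.bijective_of_isIso _
  refine (Function.Bijective.of_comp_iff _ (hc.comp hS)).1 ?_
  let F : (ULift.{u} (Fin n) → Γ(E, B)) → Γ(internalHom P E, B) := fun m =>
    (tensHom E P).app B (∑ i, tmul (m i) (resM D le_rfl (coordHom he i)))
  refine (congrArg Function.Bijective (funext fun m => ?_)).mpr (show Function.Bijective F from ?_)
  · show (tensHom E P).app B ((tensorSwap D E).app B (∑ i, tmul (resM D le_rfl (coordHom he i)) (m i))) = _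
    rw [map_sum]
    exact congrArg ((tensHom E P).app B).hom (Finset.sum_congr rfl fun i _ => Bilin.desc_tmul _ B _ (m i))
  have hF : ∀ m (W : Z.Opens) (hW : W ≤ B) (p : Γ(P, W)),
      ev (secHom (F m)) W hW p = ∑ i, he.coef hW p i • resM E hW (m i) := fun m W hW p => by
    refine (ev_tensHom_sum m _ W hW p).trans (Finset.sum_congr rfl fun i _ => ?_)
    rw [resM_internalHom, coordHom_ev]
  have hk : ∀ m k, ev (secHom (F m)) B le_rfl (resM P le_rfl (e k)) = m k := fun m k => by
    rw [hF]
    rw [he.coef_self]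
    simp only [ite_smul, one_smul, zero_smul, Finset.sum_ite_eq', Finset.mem_univ,
      if_true, PicLib.resM_self]
  constructor
  · intro m m' h
    funext k
    rw [← hk m k, ← hk m' k, h]
  · intro φ
    refine ⟨fun i => ev (secHom φ) B le_rfl (resM P le_rfl (e i)),
      locHom_ext (φ := secHom _) (ψ := secHom φ) fun W hW p => ?_⟩
    rw [hF]
    conv_rhs => rw [← he.coef_spec hW p, ev_sum]
    refine Finset.sum_congr rfl fun i _ => ?_
    rw [ev_smul_arg, ev_res, resM_resM]

/-- The comparison is bijective for a free target of `Hom`. -/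
theorem isIso_tensHom_of_target (hE : FlatMod.IsFinLocFree E) : IsIso (tensHom E P) := by
  classical
  refine TwistLib.G.isIso_of_bijective_on_basis _
    (fun B => ∃ (n : ℕ) (e : ULift.{u} (Fin n) → Γ(E, B)), IsBasisOn E B e) (fun V y hy => ?_) ?_
  · obtain ⟨U, n, e, hyU, hUV, he⟩ := exists_basis_nhd hE y V hy
    exact ⟨U, ⟨n, e, he⟩, hyU, hUV⟩
  rintro B ⟨n, e, he⟩
  let D := internalHom P (Coh.structureModule Z)
  refine (Function.Bijective.of_comp_iff _ (bijective_sum_tmul he D B le_rfl)).1 ?_
  have hF : ∀ (ξ : ULift.{u} (Fin n) → Γ(D, B)) (W : Z.Opens) (hW : W ≤ B) (p : Γ(P, W)),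
      ev (secHom ((tensHom E P).app B (∑ i, tmul (resM E le_rfl (e i)) (ξ i)))) W hW p =
        ∑ i, (show Γ(Z, W) from ev (secHom (ξ i)) W hW p) • resM E hW (e i) := fun ξ W hW p => by
    refine (ev_tensHom_sum _ ξ W hW p).trans (Finset.sum_congr rfl fun i _ => ?_)
    rw [resM_resM]
  constructor
  · intro ξ ξ' h
    funext i
    refine locHom_ext (φ := secHom _) (ψ := secHom (ξ' i)) fun W hW p => ?_
    exact congrFun ((he hW).1 ((hF ξ W hW p).symm.trans
      ((congrArg (fun φ => ev (secHom φ) W hW p) h).trans (hF ξ' W hW p)))) i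
  · intro φ
    refine ⟨fun i => (show locHom P (Coh.structureModule Z) B from
      ⟨fun W hW => AddMonoidHom.mk' (fun p => (show Γ(Coh.structureModule Z, W) from he.coef hW (ev (secHom φ) W hW p) i))
        (fun p p' => by
          show he.coef hW ((secHom φ).1 W hW (p + p')) i = _
          rw [map_add]
          exact congrFun (he.coef_add hW _ _) i),
      fun W hW r p => by
        show he.coef hW (ev (secHom φ) W hW (r • p)) i = r * he.coef hW (ev (secHom φ) W hW p) i
        rw [ev_smul_arg]
        exact congrFun (he.coef_smul hW r _) i,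
      fun W W' hW h p => by
        show Z.presheaf.map (homOfLE h).op (he.coef hW (ev (secHom φ) W hW p) i) = _
        rw [← congrFun (he.coef_res hW h _) i, ev_res]
        rfl⟩),
      locHom_ext (φ := secHom _) (ψ := secHom φ) fun W hW p => ?_⟩
    exact (hF _ W hW p).trans (he.coef_spec hW _)

end TensorHom

/-- A map of quasi-coherent modules which is bijective after an affine direct image is an isomorphism. -/
theorem isIso_of_push {M N : X.Modules} [Coh.IsQCoh M] [Coh.IsQCoh N] (c : M ⟶ N)
    [IsIso ((Scheme.Modules.pushforward π).map c)] : IsIso c := by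
  have hb : ∀ U : Z.Opens, Function.Bijective (c.app (π ⁻¹ᵁ U)) := fun U => by
    haveI : IsIso (Scheme.Modules.Hom.app ((Scheme.Modules.pushforward π).map c) U) := inferInstance
    exact ConcreteCategory.bijective_of_isIso (Scheme.Modules.Hom.app ((Scheme.Modules.pushforward π).map c) U)
  haveI : Mono c := by
    haveI := Coherent.isQCoh_kernel c
    refine Preadditive.mono_of_kernel_zero (RelVALib.hom_eq_zero_of_affine_cover _ fun x => ?_)
    obtain ⟨U, hU, hxU⟩ := RelVALib.affine_preimage_cover π x
    refine ⟨π ⁻¹ᵁ U, hxU, hU.preimage π, fun m => (hb U).1 ?_⟩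
    rw [map_zero]
    exact ConcreteCategory.congr_hom (congrArg (fun φ => Scheme.Modules.Hom.app φ (π ⁻¹ᵁ U)) (kernel.condition c)) m
  haveI : Epi c := by
    refine Preadditive.epi_of_cancel_zero _ fun {Q} d hd => RelVALib.hom_eq_zero_of_affine_cover d fun x => ?_
    obtain ⟨U, hU, hxU⟩ := RelVALib.affine_preimage_cover π x
    refine ⟨π ⁻¹ᵁ U, hxU, hU.preimage π, fun m => ?_⟩
    obtain ⟨z, rfl⟩ := (hb U).2 m
    exact ConcreteCategory.congr_hom (congrArg (fun φ => Scheme.Modules.Hom.app φ (π ⁻¹ᵁ U)) hd) z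
  exact isIso_of_mono_of_epi c

/-- `π^! E = π^! O ⊗ π^* E` when the tensor-Hom comparison is an isomorphism. -/
theorem nonempty_iso [Coh.IsQCoh E] {ωπ : X.Modules} [Coh.IsQCoh ω] [Coh.IsQCoh ωπ]
    [Coh.IsQCoh (Coh.structureModule X)]
    [Coh.IsQCoh (internalHom (P π) (Coh.structureModule Z))]
    (hT : IsIso (tensHom E (P π)))
    (huniv : ∀ F : X.Modules, Coh.IsQCoh F →
      Function.Bijective (fun φ : F ⟶ ω => (Scheme.Modules.pushforward π).map φ ≫ τ))
    (τ₀ : (Scheme.Modules.pushforward π).obj ωπ ⟶ Coh.structureModule Z)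
    (huniv₀ : ∀ F : X.Modules, Coh.IsQCoh F →
      Function.Bijective (fun φ : F ⟶ ωπ => (Scheme.Modules.pushforward π).map φ ≫ τ₀)) :
    Nonempty (CohB1.tensorMod ((Scheme.Modules.pullback π).obj E) ωπ ≅ ω) := by
  haveI := hT
  haveI : Coh.IsQCoh (CohB1.tensorMod E (internalHom (P π) (Coh.structureModule Z))) := isQCoh_tensorMod _ _
  haveI : Coh.IsQCoh (internalHom (P π) E) := Coherent.isQCoh_of_iso (asIso (tensHom E (P π)))
  haveI := isIso_theta τ huniv
  haveI := isIso_theta τ₀ huniv₀
  haveI := S13535.isIso_projHom_affine π E ωπ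
  haveI : Coh.IsQCoh ((Scheme.Modules.pullback π).obj E) := EGA43.InjFibre.isQCoh_pullback π E
  haveI : Coh.IsQCoh (CohB1.tensorMod ((Scheme.Modules.pullback π).obj E) ωπ) := isQCoh_tensorMod _ _
  let push := Scheme.Modules.pushforward π
  let b : Bilin E (push.obj ωπ) E :=
    { app := fun U a n => (show Γ(Z, U) from τ₀.app U n) • a
      add_left := fun U a a' n => smul_add _ _ _
      add_right := fun U a n n' => by
        rw [map_add]
        exact add_smul (show Γ(Z, U) from τ₀.app U n) (show Γ(Z, U) from τ₀.app U n') a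
      smul_left := fun U r a n => smul_comm _ _ _
      smul_right := fun U r a n => by
        rw [Scheme.Modules.Hom.app_smul]
        exact mul_smul r (show Γ(Z, U) from τ₀.app U n) a
      res := fun U V h a n => by
        rw [resM_smul]
        exact congrArg (fun c : Γ(Z, V) => c • resM E h a) (app_resM τ₀ h n).symm }
  obtain ⟨c, hc⟩ := (huniv _ inferInstance).2 (inv (projHom π E ωπ) ≫ b.desc)
  have hc' : push.map c ≫ τ = inv (projHom π E ωπ) ≫ b.desc := hc
  have key : projHom π E ωπ ≫ push.map c ≫ theta τ = tensorMap (𝟙 E) (theta τ₀) ≫ tensHom E (P π) := by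
    refine AmpleLib.hom_ext fun U a n => locHom_ext (φ := secHom _) (ψ := secHom _) fun W hW p => ?_
    show ev (secHom ((theta τ).app U ((push.map c).app U ((projHom π E ωπ).app U (tmul a n))))) W hW p =
      ev (secHom ((tensHom E (P π)).app U ((tensorMap (𝟙 E) (theta τ₀)).app U (tmul a n)))) W hW p
    rw [tensorMap_tmul, ev_tensHom, ev_theta, ← app_resM, ← app_resM, resM_tmul]
    show _ = (show Γ(Z, W) from ev (secHom ((theta τ₀).app U n)) W hW p) • resM E hW a
    rw [ev_theta]
    let m : Γ(push.obj ωπ, W) := fn π p • (show Γ(ωπ, π ⁻¹ᵁ W) from resM (push.obj ωπ) hW n)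
    have e : (inv (projHom π E ωπ) ≫ b.desc).app W ((projHom π E ωπ).app W (tmul (resM E hW a) m)) =
        (show Γ(Z, W) from τ₀.app W m) • resM E hW a := by
      refine Eq.trans ?_ (Bilin.desc_tmul b W (resM E hW a) m)
      exact ConcreteCategory.congr_hom (congrArg (fun φ => Scheme.Modules.Hom.app φ W)
        (IsIso.hom_inv_id_assoc (projHom π E ωπ) b.desc)) _
    rw [← hc', projHom_tmul] at e
    refine Eq.trans ?_ e
    rw [projHom_tmul]
    show τ.app W (show Γ(push.obj ω, W) from fn π p • c.app (π ⁻¹ᵁ W) _) = τ.app W (c.app (π ⁻¹ᵁ W) _)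
    rw [← Scheme.Modules.Hom.app_smul]
    refine congrArg (fun z => τ.app W (c.app (π ⁻¹ᵁ W) z)) ?_
    exact (tmul_smul_right (fn π p) _ _).symm
  haveI : IsIso (tensorMap (𝟙 E) (theta τ₀)) :=
    inferInstanceAs (IsIso (AmpleLib.tensorIso (Iso.refl E) (asIso (theta τ₀))).hom)
  haveI : IsIso (projHom π E ωπ ≫ push.map c ≫ theta τ) := key ▸ IsIso.comp_isIso
  haveI : IsIso (push.map c ≫ theta τ) := IsIso.of_isIso_comp_left (projHom π E ωπ) _
  haveI : IsIso (push.map c) := IsIso.of_isIso_comp_right (push.map c) (theta τ)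
  haveI := isIso_of_push (π := π) c
  exact ⟨asIso c⟩

end Groth.Agent.LD6.FinShriek
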