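import Groth.Agent.Coherent.ModExt
import Groth.Agent.DCat.JShriek
import Groth.Agent.Dual22Lib.GammaZ
import Groth.Prelude.Def_LocCohZ

/-!
# Cohomology with supports of modules as maps out of `O/j_!O` in the derived category
-/

set_option autoImplicit false
set_option backward.isDefEq.respectTransparency false
set_option linter.style.haveILetI false
set_option linter.unusedSectionVars false

universe u

open CategoryTheory CategoryTheory.Limits CategoryTheory.Abelian AlgebraicGeometry Opposite TopologicalSpace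
open Groth.Agent.Coherent

attribute [local instance] HasDerivedCategory.standard

namespace Groth.Agent.LD6

variable {X : Scheme.{u}}

/-- `O / j_! O_U`. -/
noncomputable abbrev quotMod (U : X.Opens) : X.Modules :=
  cokernel ((freeModOn X).map (homOfLE (le_top : U ≤ ⊤)))

theorem mono_freeMap (U : X.Opens) : Mono ((freeModOn X).map (homOfLE (le_top : U ≤ ⊤))) :=
  isFlasque_toAb_of_injective.mono_freeModOn_map le_top

/-- The sequence `j_! O_U → O → O/j_! O_U`. -/
noncomputable def quotSeq (U : X.Opens) : ShortComplex X.Modules :=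
  ShortComplex.mk ((freeModOn X).map (homOfLE (le_top : U ≤ ⊤))) (cokernel.π _) (cokernel.condition _)

theorem quotSeq_shortExact (U : X.Opens) : (quotSeq U).ShortExact :=
  haveI := mono_freeMap U
  { exact := ShortComplex.exact_of_g_is_cokernel _ (cokernelIsCokernel _)
    mono_f := by dsimp [quotSeq]; infer_instance
    epi_g := by dsimp [quotSeq]; infer_instance }

/-- Maps out of `j_! O_U` as maps out of `ℤ_U`. -/
theorem bijective_unit_comp (U : X.Opens) (M : X.Modules) :
    Function.Bijective fun f : (freeModOn X).obj U ⟶ M => freeUnit U ≫ (toAbFunctor X).map f := by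
  have h : (fun f : (freeModOn X).obj U ⟶ M => Ext.mk₀ (freeUnit U ≫ (toAbFunctor X).map f)) =
      (extToH U M 0) ∘ Ext.mk₀ := funext fun f => by
    show _ = extToH U M 0 (Ext.mk₀ f)
    rw [extToH_apply, Ext.mapExactFunctor_mk₀, Ext.mk₀_comp_mk₀]
  exact (Function.Bijective.of_comp_iff' (Ext.mk₀_bijective _ _) _).1
    (h ▸ (bijective_extToH_zero U M).comp (Ext.mk₀_bijective _ _) :)

/-- `ℤ/ℤ_U → O/j_!O_U`. -/
noncomputable def nu (U : X.Opens) :
    LocCohZ.zq (X := X.carrier) (le_top : U ≤ ⊤) ⟶ Coh.toAb (quotMod U) :=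
  cokernel.desc _ (freeUnit ⊤ ≫ (toAbFunctor X).map (cokernel.π _)) (by
    refine (Category.assoc _ _ _).symm.trans ?_
    erw [freeUnit_naturality (le_top : U ≤ ⊤)]
    rw [Category.assoc, ← Functor.map_comp, cokernel.condition, Functor.map_zero, comp_zero])

theorem π_nu (U : X.Opens) :
    cokernel.π (CohCx.freeSheafMap (Opens.grothendieckTopology X.carrier) (homOfLE (le_top : U ≤ ⊤))) ≫ nu U =
      freeUnit ⊤ ≫ (toAbFunctor X).map (cokernel.π _) := cokernel.π_desc _ _ _

theorem bijective_nu_comp (U : X.Opens) (M : X.Modules) :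
    Function.Bijective fun f : quotMod U ⟶ M => nu U ≫ (toAbFunctor X).map f := by
  constructor
  · intro f g h
    apply (cancel_epi (cokernel.π ((freeModOn X).map (homOfLE (le_top : U ≤ ⊤))))).1
    refine (bijective_unit_comp ⊤ M).1 ?_
    show freeUnit ⊤ ≫ _ = freeUnit ⊤ ≫ _
    rw [Functor.map_comp, Functor.map_comp, ← Category.assoc, ← Category.assoc, ← π_nu]
    exact (Category.assoc _ _ _).trans ((congrArg (_ ≫ ·) h).trans (Category.assoc _ _ _).symm)
  · intro g
    obtain ⟨ψ, hψ⟩ := (bijective_unit_comp ⊤ M).2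
      (cokernel.π (CohCx.freeSheafMap (Opens.grothendieckTopology X.carrier) (homOfLE (le_top : U ≤ ⊤))) ≫ g)
    have h0 : (freeModOn X).map (homOfLE (le_top : U ≤ ⊤)) ≫ ψ = 0 := by
      refine (bijective_unit_comp U M).1 ?_
      show freeUnit U ≫ _ = freeUnit U ≫ _
      rw [Functor.map_zero, comp_zero, Functor.map_comp, ← Category.assoc, ← freeUnit_naturality (le_top : U ≤ ⊤)]
      refine (Category.assoc _ _ _).trans ((congrArg (_ ≫ ·) hψ).trans ?_)
      exact (Category.assoc _ _ _).symm.trans ((congrArg (· ≫ g) (cokernel.condition _)).trans zero_comp)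
    refine ⟨cokernel.desc _ ψ h0, (cancel_epi (cokernel.π
      (CohCx.freeSheafMap (Opens.grothendieckTopology X.carrier) (homOfLE (le_top : U ≤ ⊤))))).1 ?_⟩
    refine Eq.trans ?_ hψ
    refine (Category.assoc _ _ _).symm.trans ((congrArg (· ≫ _) (π_nu U)).trans ?_)
    rw [Category.assoc, ← Functor.map_comp, cokernel.π_desc]

theorem subsingleton_HZ_injective (U : X.Opens) (I : X.Modules) [Injective I] (n : ℕ) :
    Subsingleton (LocCohZ.HZM X I (n + 1) U) := by
  haveI := isFlasque_toAb_of_injective I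
  refine subsingleton_of_forall_eq 0 fun x => ?_
  let F := Coh.toAb I
  have hS := LocCohZ.zqSeq_shortExact (X := X.carrier) (le_top : U ≤ ⊤)
  obtain ⟨y, hy⟩ := Ext.contravariant_sequence_exact₃ hS F x
    (@Subsingleton.elim (Ext (LocCohZ.zqSeq (X := X.carrier) (le_top : U ≤ ⊤)).X₂ F (n + 1))
      (subsingleton_H'_of_isFlasque (X := X.toTopCat) F ⊤ n) _ _) (n₀ := n) (by omega)
  rcases n with _ | m
  · obtain ⟨φ, rfl⟩ := (Ext.mk₀_bijective _ _).2 y
    obtain ⟨φ', hφ⟩ := (freeShEquiv (X := X.toTopCat) ⊤ F).surjective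
      (((AddCommGrpCat.epi_iff_surjective _).1
        (TopCat.Presheaf.IsFlasque.epi (F := F.obj) (homOfLE (le_top : U ≤ ⊤)).op)
        (freeShEquiv (X := X.toTopCat) U F φ)).choose)
    have hres : freeShMap (X := X.toTopCat) (le_top : U ≤ ⊤) ≫ φ' = φ := by
      apply (freeShEquiv (X := X.toTopCat) U F).injective
      rw [freeShEquiv_map, hφ]
      exact ((AddCommGrpCat.epi_iff_surjective _).1
        (TopCat.Presheaf.IsFlasque.epi (F := F.obj) (homOfLE (le_top : U ≤ ⊤)).op)
        (freeShEquiv (X := X.toTopCat) U F φ)).choose_spec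
    rw [← hy, ← hres]
    refine (congrArg (fun e => hS.extClass.comp e (add_zero 1))
      (Ext.mk₀_comp_mk₀ (LocCohZ.zqSeq (X := X.carrier) (le_top : U ≤ ⊤)).f φ').symm).trans ?_
    exact hS.extClass_comp_assoc (h := add_zero 1) (Ext.mk₀ φ')
  · rw [← hy, @Subsingleton.elim (Ext (LocCohZ.zqSeq (X := X.carrier) (le_top : U ≤ ⊤)).X₁ F (m + 1))
      (subsingleton_H'_of_isFlasque (X := X.toTopCat) F U m) y 0, Ext.comp_zero]

/-- The comparison map. -/
noncomputable def extToHZ (U : X.Opens) (M : X.Modules) (n : ℕ) :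
    Ext (quotMod U) M n →+ LocCohZ.HZM X M n U :=
  ((Ext.mk₀ (nu U)).precomp (Coh.toAb M) (zero_add n)).comp ((toAbFunctor X).mapExtAddHom _ M n)

theorem extToHZ_apply (U : X.Opens) (M : X.Modules) (n : ℕ) (x : Ext (quotMod U) M n) :
    extToHZ U M n x = (Ext.mk₀ (nu U)).comp (x.mapExactFunctor (toAbFunctor X)) (zero_add n) := rfl

theorem extToHZ_comp {U : X.Opens} {M N : X.Modules} {n m k : ℕ}
    (x : Ext (quotMod U) M n) (y : Ext M N m) (h : n + m = k) :
    extToHZ U N k (x.comp y h) = (extToHZ U M n x).comp (y.mapExactFunctor (toAbFunctor X)) h := by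
  rw [extToHZ_apply, extToHZ_apply, Ext.mapExactFunctor_comp]
  exact (Ext.comp_assoc _ _ _ (zero_add n) h (by omega)).symm

theorem bijective_extToHZ (U : X.Opens) : ∀ (n : ℕ) (M : X.Modules), Function.Bijective (extToHZ U M n)
  | 0, M => by
    have h : extToHZ U M 0 ∘ Ext.mk₀ = Ext.mk₀ ∘ fun f : quotMod U ⟶ M => nu U ≫ (toAbFunctor X).map f :=
      funext fun f => by
        show extToHZ U M 0 (Ext.mk₀ f) = _
        rw [extToHZ_apply, Ext.mapExactFunctor_mk₀]
        exact Ext.mk₀_comp_mk₀ _ _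
    refine (Function.Bijective.of_comp_iff _ (Ext.mk₀_bijective (quotMod U) M)).1 (h ▸ ?_)
    exact (Ext.mk₀_bijective _ _).comp (bijective_nu_comp U M)
  | n + 1, M => by
    have : EnoughInjectives X.Modules :=
      have : IsGrothendieckAbelian.{u} X.Modules := DCat.schemeModules_isGrothendieckAbelian X
      inferInstance
    let S := SiteCoh.injEmbed M
    have hS : S.ShortExact := SiteCoh.injEmbed_shortExact M
    have : Injective S.X₂ := inferInstanceAs (Injective (Injective.under M))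
    have hS' := hS.map_of_exact (toAbFunctor X)
    have hacyc := subsingleton_HZ_injective U S.X₂ n
    have e₁ := Ext.mapExactFunctor_extClass (toAbFunctor X) hS
    constructor
    · rw [injective_iff_map_eq_zero]
      intro x hx
      obtain ⟨y, hy⟩ := Ext.covariant_sequence_exact₁ _ hS x (Ext.eq_zero_of_injective _) rfl
      rw [← hy, extToHZ_comp, e₁] at hx
      obtain ⟨w, hw⟩ := Ext.covariant_sequence_exact₃ _ hS' (extToHZ U S.X₃ n y) rfl hx
      obtain ⟨v, hv⟩ := (bijective_extToHZ U n S.X₂).2 w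
      have : y = v.comp (Ext.mk₀ S.g) (add_zero n) := by
        apply (bijective_extToHZ U n S.X₃).1
        rw [extToHZ_comp, Ext.mapExactFunctor_mk₀, hv]
        exact hw.symm
      rw [← hy, this, Ext.comp_assoc_of_second_deg_zero, hS.comp_extClass, Ext.comp_zero]
    · intro z
      obtain ⟨w, hw⟩ := Ext.covariant_sequence_exact₁ _ hS' z (@Subsingleton.elim _ hacyc _ _) rfl
      obtain ⟨y, rfl⟩ := (bijective_extToHZ U n S.X₃).2 w
      refine ⟨y.comp hS.extClass rfl, ?_⟩
      rw [extToHZ_comp, e₁]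
      exact hw

open Dual22Lib Dual22Lib.AdjGeom

/-- Nothing maps from `j_! O_U` to objects killed on `U`. -/
theorem eq_zero_free {U : X.Opens} {N : DCoh.D X} (hN : killed U.ι N)
    (g : (DerivedCategory.singleFunctor X.Modules 0).obj ((freeModOn X).obj U) ⟶ N) : g = 0 := by
  let F₀ := (freeModOn (U : Scheme.{u})).obj ⊤
  let E₁ : ∀ M : X.Modules, ((DCat.JShriek.shriek U.ι).obj F₀ ⟶ M) ≃ Γ(M, U.ι ''ᵁ ⊤) := fun M =>
    (((DCat.JShriek.shriekAdj U.ι).homEquiv F₀ M).trans (freeModOnEquiv ⊤ _)).trans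
      (M.restrictAppIso U.ι ⊤).addCommGroupIsoToAddEquiv.toEquiv
  let E₂ : ∀ M : X.Modules, ((freeModOn X).obj (U.ι ''ᵁ ⊤) ⟶ M) ≃ Γ(M, U.ι ''ᵁ ⊤) :=
    freeModOnEquiv (U.ι ''ᵁ ⊤)
  have h₁ : ∀ {M M' : X.Modules} (a : (DCat.JShriek.shriek U.ι).obj F₀ ⟶ M) (φ : M ⟶ M'),
      E₁ M' (a ≫ φ) = φ.app (U.ι ''ᵁ ⊤) (E₁ M a) := fun a φ => by
    simp only [E₁, Equiv.trans_apply, Adjunction.homEquiv_naturality_right]
    rw [freeModOnEquiv_comp]
    rfl
  have h₂ : ∀ {M M' : X.Modules} (a : (freeModOn X).obj (U.ι ''ᵁ ⊤) ⟶ M) (φ : M ⟶ M'),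
      E₂ M' (a ≫ φ) = φ.app (U.ι ''ᵁ ⊤) (E₂ M a) := fun a φ => freeModOnEquiv_comp _ a φ
  let i : (DCat.JShriek.shriek U.ι).obj F₀ ≅ (freeModOn X).obj (U.ι ''ᵁ ⊤) :=
    { hom := (E₁ _).symm (E₂ _ (𝟙 _))
      inv := (E₂ _).symm (E₁ _ (𝟙 _))
      hom_inv_id := (E₁ _).injective (by
        rw [h₁, Equiv.apply_symm_apply, ← h₂, Category.id_comp, Equiv.apply_symm_apply])
      inv_hom_id := (E₂ _).injective (by
        rw [h₂, Equiv.apply_symm_apply, ← h₁, Category.id_comp, Equiv.apply_symm_apply]) }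
  have hU : U.ι ''ᵁ ⊤ = U := by simp
  let S := DerivedCategory.singleFunctor X.Modules 0
  let c : (DCat.JShriek.shriek U.ι).mapDerivedCategory.obj
      ((DerivedCategory.singleFunctor (U : Scheme.{u}).Modules 0).obj F₀) ≅ S.obj ((freeModOn X).obj U) :=
    ((DCat.JShriek.shriek U.ι).mapDerivedCategorySingleFunctor 0).app F₀ ≪≫
      S.mapIso (i ≪≫ eqToIso (by rw [hU]))
  have h0 : c.hom ≫ g = 0 := by
    apply ((DCat.JShriek.shriekD U.ι).homEquiv _ _).injective
    exact hN.eq_of_tgt _ _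
  exact (cancel_epi c.hom).1 (h0.trans comp_zero.symm)

/-- `O/j_!O_U` is killed on `U`. -/
theorem isZero_restrict_quotMod (U : X.Opens) :
    IsZero ((Scheme.Modules.restrictFunctor U.ι).obj (quotMod U)) := by
  refine (IsZero.iff_id_eq_zero _).2 ?_
  apply ((Scheme.Modules.restrictAdjunction U.ι).homEquiv _ _).injective
  apply (cancel_epi (cokernel.π ((freeModOn X).map (homOfLE (le_top : U ≤ ⊤))))).1
  let P := (Scheme.Modules.pushforward U.ι).obj ((Scheme.Modules.restrictFunctor U.ι).obj (quotMod U))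
  have hinj : ∀ a b : (freeModOn X).obj ⊤ ⟶ P,
      (freeModOn X).map (homOfLE (le_top : U ≤ ⊤)) ≫ a = (freeModOn X).map (homOfLE (le_top : U ≤ ⊤)) ≫ b →
        a = b := by
    intro a b h
    apply (secMod ⊤ P).injective
    have h' := congrArg (secMod U P) h
    rw [secMod_res, secMod_res] at h'
    have hb : Function.Bijective ((Coh.toAb P).obj.map (homOfLE (le_top : U ≤ ⊤)).op) := by
      have e : U.ι ⁻¹ᵁ U = U.ι ⁻¹ᵁ ⊤ := by simp
      show Function.Bijective (((Coh.toAb ((Scheme.Modules.restrictFunctor U.ι).obj (quotMod U))).obj).map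
        (homOfLE (show U.ι ⁻¹ᵁ U ≤ U.ι ⁻¹ᵁ ⊤ from e.le)).op)
      rw [show homOfLE (show U.ι ⁻¹ᵁ U ≤ U.ι ⁻¹ᵁ ⊤ from e.le) = eqToHom e from Subsingleton.elim _ _]
      exact ConcreteCategory.bijective_of_isIso _
    exact hb.1 h'
  refine hinj _ _ ?_
  rw [← Category.assoc, ← Category.assoc, cokernel.condition, zero_comp, zero_comp]

theorem killed_quot (U : X.Opens) :
    killed U.ι ((DerivedCategory.singleFunctor X.Modules 0).obj (quotMod U)) :=
  ((DerivedCategory.singleFunctor (U : Scheme.{u}).Modules 0).map_isZero (isZero_restrict_quotMod U)).of_iso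
    (((Scheme.Modules.restrictFunctor U.ι).mapDerivedCategorySingleFunctor 0).app (quotMod U))

variable (U : X.Opens) [CxOX.HasRgammaZ U.ι] [DCoh.HasRpush U.ι]

open CategoryTheory.Pretriangulated in
/-- Global derived sections of `RΓ_Z M` are the cohomology with supports. -/
theorem nonempty_sections_equiv (M : X.Modules) (n : ℕ) :
    Nonempty (((DerivedCategory.singleFunctor X.Modules 0).obj ((freeModOn X).obj ⊤) ⟶
      ((CxOX.RgammaZ U.ι).obj (DCoh.inD X M))⟦(n : ℤ)⟧) ≃+ LocCohZ.HZM X M n U) := by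
  let N := ((CxOX.RgammaZ U.ι).obj (DCoh.inD X M))⟦(n : ℤ)⟧
  have hN : killed U.ι N := (killed U.ι).le_shift (n : ℤ) _ (GammaZ.killed_RgammaZ U.ι _)
  let T := (quotSeq_shortExact U).singleTriangle
  have hT : T ∈ distTriang (DCoh.D X) := (quotSeq_shortExact U).singleTriangle_distinguished
  let a : (T.obj₃ ⟶ N) →+ ((DerivedCategory.singleFunctor X.Modules 0).obj ((freeModOn X).obj ⊤) ⟶ N) :=
    Preadditive.leftComp N T.mor₂
  have hN1 : ∀ g : T.obj₁⟦(1 : ℤ)⟧ ⟶ N, g = 0 := fun g => by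
    obtain ⟨g', rfl⟩ := (shiftFunctor (DCoh.D X) (1 : ℤ)).map_surjective
      (g ≫ (shiftFunctorCompIsoId (DCoh.D X) (-1) (1 : ℤ) (by omega)).inv.app N) |>.imp
        fun g' h => (show g = (shiftFunctor (DCoh.D X) (1 : ℤ)).map g' ≫
          (shiftFunctorCompIsoId (DCoh.D X) (-1) (1 : ℤ) (by omega)).hom.app N by rw [h]; simp)
    rw [eq_zero_free ((killed U.ι).le_shift (-1 : ℤ) N hN) g', Functor.map_zero, zero_comp]
  have ha : Function.Bijective a := by
    refine ⟨(injective_iff_map_eq_zero a).2 fun g hg => ?_, fun g => ?_⟩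
    · obtain ⟨g', rfl⟩ := Triangle.yoneda_exact₃ _ hT g hg
      rw [hN1 g', comp_zero]
    · obtain ⟨g', hg'⟩ := Triangle.yoneda_exact₂ _ hT g (eq_zero_free hN _)
      exact ⟨g', hg'.symm⟩
  let C := (DerivedCategory.singleFunctor X.Modules 0).obj (quotMod U)
  let ε := ((CxOX.RgammaZToId U.ι).app (DCoh.inD X M))⟦(n : ℤ)⟧'
  let b : (C ⟶ N) →+ (C ⟶ (DCoh.inD X M)⟦(n : ℤ)⟧) := Preadditive.rightComp C ε
  have hC : ∀ k : ℤ, killed U.ι (C⟦k⟧) := fun k => (killed U.ι).le_shift k _ (killed_quot U)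
  have hb : Function.Bijective b := by
    let c := (shiftEquiv (DCoh.D X) (n : ℤ)).symm.toAdjunction
    have key : (fun g : C⟦(-(n : ℤ))⟧ ⟶ (CxOX.RgammaZ U.ι).obj (DCoh.inD X M) =>
        c.homEquiv _ _ (g ≫ (CxOX.RgammaZToId U.ι).app (DCoh.inD X M))) = b ∘ (c.homEquiv _ _) :=
      funext fun g => c.homEquiv_naturality_right g _
    refine (Function.Bijective.of_comp_iff _ (c.homEquiv _ _).bijective).1 (key ▸ ?_)
    exact (c.homEquiv _ _).bijective.comp (GammaZ.bijective_comp U.ι (hC _) _)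
  exact ⟨(((AddEquiv.ofBijective a ha).symm.trans (AddEquiv.ofBijective b hb)).trans
    (Ext.homAddEquiv (X := quotMod U) (Y := M) (n := n)).symm).trans
      (AddEquiv.ofBijective (extToHZ U M n) (bijective_extToHZ U n M))⟩

end Groth.Agent.LD6
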